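import Cfsg.Agent.Lib.Spectrum.OmegaNine.Basic
import Cfsg.Agent.Lib.Classical.OrthModels
import Cfsg.Agent.Lib.Classical.OrthFix

/-!
Regular unipotent isometries of odd-dimensional non-degenerate subspaces.
-/

set_option autoImplicit false
set_option linter.unusedSectionVars false

namespace CfsgLib.Spectrum.OmegaNine

open Module CfsgLib.Orth
open scoped Matrix

section char

variable (F : Type*) [Field F] {p : ℕ} [Fact p.Prime] [CharP F p] {A : Type*} [Ring A] [Algebra F A]

include F

theorem sub_one_pow_char (U : A) (a : ℕ) : (U - 1) ^ p ^ a = U ^ p ^ a - 1 := by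
  have h := congrArg (Polynomial.aeval U) (sub_pow_char_pow (R := Polynomial F) (p := p) Polynomial.X 1 (n := a))
  simpa using h

theorem geom_sum_char (U : A) (a : ℕ) : ∑ i ∈ Finset.range (p ^ a), U ^ i = (U - 1) ^ (p ^ a - 1) := by
  have h : ∑ i ∈ Finset.range (p ^ a), (Polynomial.X : Polynomial F) ^ i = (Polynomial.X - 1) ^ (p ^ a - 1) := by
    refine mul_right_cancel₀ (show (Polynomial.X - 1 : Polynomial F) ≠ 0 by
      simpa using Polynomial.X_sub_C_ne_zero (1 : F)) ?_
    rw [geom_sum_mul, ← pow_succ, Nat.sub_add_cancel (Nat.one_le_pow _ _ (Nat.Prime.pos Fact.out)),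
      sub_pow_char_pow (p := p) Polynomial.X 1, one_pow]
  simpa using congrArg (Polynomial.aeval U) h

end char

section model

variable {F : Type*} [Field F]

/-- The value of a vector at an index, zero outside the range. -/
def ext {D : ℕ} (x : Fin D → F) (i : ℕ) : F := if h : i < D then x ⟨i, h⟩ else 0

theorem ext_add {D : ℕ} (x y : Fin D → F) (i : ℕ) : ext (x + y) i = ext x i + ext y i := by
  unfold ext; split_ifs <;> simp

theorem ext_smul {D : ℕ} (c : F) (x : Fin D → F) (i : ℕ) : ext (c • x) i = c * ext x i := by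
  unfold ext; split_ifs <;> simp

/-- The shift. -/
def shiftEnd (F : Type*) [Field F] (D : ℕ) : Module.End F (Fin D → F) where
  toFun x i := if (i : ℕ) = 0 then 0 else ext x ((i : ℕ) - 1)
  map_add' x y := funext fun i => by by_cases h : (i : ℕ) = 0 <;> simp [h, ext_add]
  map_smul' c x := funext fun i => by by_cases h : (i : ℕ) = 0 <;> simp [h, ext_smul]

theorem ext_shift {D : ℕ} (x : Fin D → F) {i : ℕ} (hi : i < D) :
    ext (shiftEnd F D x) i = if i = 0 then 0 else ext x (i - 1) := by
  conv_lhs => unfold ext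
  rw [dif_pos hi]
  rfl

theorem ext_shift_pow {D : ℕ} (x : Fin D → F) : ∀ (k : ℕ) {i : ℕ}, i < D →
    ext ((shiftEnd F D ^ k) x) i = if i < k then 0 else ext x (i - k) := by
  intro k
  induction k with
  | zero => intro i hi; simp
  | succ k ih =>
    intro i hi
    rw [pow_succ', Module.End.mul_apply, ext_shift _ hi]
    rcases Nat.eq_zero_or_pos i with rfl | hp
    · simp
    · rw [if_neg hp.ne', ih (by omega)]
      by_cases h : i < k + 1
      · rw [if_pos h, if_pos (by omega)]
      · rw [if_neg h, if_neg (by omega), show i - 1 - k = i - (k + 1) by omega]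

/-- The alternating anti-diagonal form. -/
def antiForm (F : Type*) [Field F] (l : ℕ) :
    (Fin (2 * l + 1) → F) →ₗ[F] (Fin (2 * l + 1) → F) →ₗ[F] F :=
  LinearMap.mk₂ F (fun x y => ∑ i ∈ Finset.range (2 * l + 1), (-1) ^ i * ext x i * ext y (2 * l - i))
    (fun a b c => by simp [ext_add, mul_add, add_mul, Finset.sum_add_distrib])
    (fun c a b => by simp [ext_smul, Finset.mul_sum]; exact Finset.sum_congr rfl fun i _ => by ring)
    (fun a b c => by simp [ext_add, mul_add, Finset.sum_add_distrib])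
    (fun c a b => by simp [ext_smul, Finset.mul_sum]; exact Finset.sum_congr rfl fun i _ => by ring)

theorem antiForm_apply (l : ℕ) (x y : Fin (2 * l + 1) → F) :
    antiForm F l x y = ∑ i ∈ Finset.range (2 * l + 1), (-1) ^ i * ext x i * ext y (2 * l - i) := rfl

theorem antiForm_comm (l : ℕ) (x y : Fin (2 * l + 1) → F) : antiForm F l x y = antiForm F l y x := by
  rw [antiForm_apply, antiForm_apply, ← Finset.sum_range_reflect]
  refine Finset.sum_congr rfl fun i hi => ?_
  rw [Finset.mem_range] at hi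
  have e : (-1 : F) ^ (2 * l + 1 - 1 - i) = (-1) ^ i :=
    neg_one_pow_congr (by simp only [Nat.even_iff]; omega)
  rw [e, show 2 * l - (2 * l + 1 - 1 - i) = i by omega, show 2 * l + 1 - 1 - i = 2 * l - i by omega]
  ring

theorem antiForm_skew (l : ℕ) (x y : Fin (2 * l + 1) → F) :
    antiForm F l (shiftEnd F _ x) y + antiForm F l x (shiftEnd F _ y) = 0 := by
  rw [antiForm_apply, antiForm_apply, Finset.sum_range_succ', Finset.sum_range_succ,
    ext_shift x (by omega : (0 : ℕ) < 2 * l + 1), if_pos rfl, Nat.sub_self,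
    ext_shift y (by omega : (0 : ℕ) < 2 * l + 1), if_pos rfl]
  simp only [mul_zero, zero_mul, add_zero, ← Finset.sum_add_distrib]
  refine Finset.sum_eq_zero fun i hi => ?_
  rw [Finset.mem_range] at hi
  rw [ext_shift x (by omega : i + 1 < 2 * l + 1), if_neg (by omega), Nat.add_sub_cancel,
    ext_shift y (by omega : 2 * l - i < 2 * l + 1), if_neg (by omega), show 2 * l - (i + 1) = 2 * l - i - 1 by omega]
  ring

theorem exists_regular_model (h2 : (2 : F) ≠ 0) (l : ℕ) :
    ∃ (Q : QuadraticForm F (Fin (2 * l + 1) → F)) (U : Module.End F (Fin (2 * l + 1) → F)),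
      (QuadraticMap.polarBilin Q).Nondegenerate ∧ (∀ x, Q (U x) = Q x) ∧
        (U - 1) ^ (2 * l + 1) = 0 ∧ (U - 1) ^ (2 * l) ≠ 0 := by
  set D := 2 * l + 1 with hD
  set N := shiftEnd F D with hN
  let Q : QuadraticForm F (Fin D → F) := LinearMap.BilinMap.toQuadraticMap (antiForm F l)
  have hQ : ∀ x, Q x = antiForm F l x x := fun _ => rfl
  have hpol : ∀ u v, QuadraticMap.polar ⇑Q u v = 2 * antiForm F l u v := fun u v => by
    simp only [QuadraticMap.polar, hQ, map_add, LinearMap.add_apply, antiForm_comm l v u]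
    ring
  have hNa : ∀ a, antiForm F l (N a) a = 0 := fun a => by
    have h := antiForm_skew l a a
    rw [antiForm_comm l a] at h
    exact (mul_eq_zero.1 (show (2 : F) * antiForm F l (shiftEnd F _ a) a = 0 by linear_combination h)).resolve_left h2
  have hND : N ^ D = 0 := LinearMap.ext fun x => funext fun i => by
    have h := ext_shift_pow x D i.2
    rw [if_pos i.2] at h
    simpa [ext, i.2, hN] using h
  set M := ∑ k ∈ Finset.range D, N ^ k with hM
  have h1 : (1 - N) * M = 1 := by rw [hM, mul_neg_geom_sum, hND, sub_zero]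
  have h1' : M * (1 - N) = 1 := by rw [hM, geom_sum_mul_neg, hND, sub_zero]
  set U := (1 + N) * M with hU
  have hU1 : U - 1 = (2 : F) • (N * M) := by
    have e : (1 + N) * M - (1 - N) * M = (2 : F) • (N * M) := by rw [two_smul, add_mul, sub_mul]; abel
    rwa [h1] at e
  have hc : Commute N M := Commute.sum_right _ _ _ fun k _ => (Commute.refl N).pow_right k
  have hpow : ∀ k, (U - 1) ^ k = ((2 : F) ^ k) • (N ^ k * M ^ k) := fun k => by
    rw [hU1, smul_pow, hc.mul_pow]
  refine ⟨Q, U, ?_, fun x => ?_, by rw [hpow, hND, zero_mul, smul_zero], fun h => ?_⟩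
  · have hl : ∀ u, (∀ v, QuadraticMap.polar ⇑Q u v = 0) → u = 0 := by
      intro u hu
      funext i
      have h := hu (Pi.single (⟨2 * l - (i : ℕ), by omega⟩ : Fin D) 1)
      rw [hpol, mul_eq_zero, or_iff_right h2, antiForm_apply, Finset.sum_eq_single (i : ℕ)] at h
      · simp [ext, i.2, show 2 * l - (i : ℕ) < D by omega] at h
        exact h (by omega)
      · intro j hj hne
        rw [Finset.mem_range] at hj
        have := i.2
        simp [ext, show 2 * l - j < D by omega, Pi.single_apply, Fin.ext_iff, show 2 * l - j ≠ 2 * l - (i : ℕ) by omega]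
      · intro hni
        exact absurd (Finset.mem_range.2 i.2) hni
    exact ⟨hl, fun v hv => hl v fun u => by rw [QuadraticMap.polar_comm]; exact hv u⟩
  · obtain ⟨a, rfl⟩ : ∃ a, x = (1 - N) a := ⟨M x, by rw [← Module.End.mul_apply, h1, Module.End.one_apply]⟩
    rw [hU, Module.End.mul_apply, ← Module.End.mul_apply M, h1', Module.End.one_apply, hQ, hQ]
    simp only [LinearMap.add_apply, LinearMap.sub_apply, Module.End.one_apply, map_add, map_sub, hNa,
      antiForm_comm l a (N a)]
    ring
  · rw [hpow, smul_eq_zero, or_iff_right (pow_ne_zero _ h2)] at h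
    have h' : N ^ (2 * l) = 0 := by
      have h3 : N ^ (2 * l) * (M ^ (2 * l) * (1 - N) ^ (2 * l)) = N ^ (2 * l) := by
        rw [← (show Commute M (1 - N) from by rw [commute_iff_eq, h1, h1']).mul_pow, h1', one_pow, mul_one]
      rw [← h3, ← mul_assoc, h, zero_mul]
    have h4 := congrArg (fun T : Module.End F (Fin D → F) => ext (T (Pi.single ⟨0, by omega⟩ 1)) (2 * l)) h'
    simp only [hN, ext_shift_pow _ _ (show 2 * l < D by omega), lt_irrefl, if_false, Nat.sub_self,
      LinearMap.zero_apply] at h4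
    simp [ext] at h4

open CfsgLib.Classical.OrthModels in
theorem exists_regular [Finite F] (h2 : (2 : F) ≠ 0) {V : Type*} [AddCommGroup V] [Module F V]
    [FiniteDimensional F V] (Qv : QuadraticForm F V) (hQv : (QuadraticMap.polarBilin Qv).Nondegenerate)
    {l : ℕ} (hd : finrank F V = 2 * l + 1) :
    ∃ U : Module.End F V, (∀ x, Qv (U x) = Qv x) ∧ (U - 1) ^ (2 * l + 1) = 0 ∧ (U - 1) ^ (2 * l) ≠ 0 := by
  cases nonempty_fintype F
  obtain ⟨Qm, U, hnd, hiso, hz, hne⟩ := exists_regular_model (F := F) h2 l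
  obtain ⟨α, hα, e₁, he₁⟩ := classify_odd Qm hnd (Module.finrank_fin_fun F)
  obtain ⟨β, hβ, e₂, he₂⟩ := classify_odd Qv hQv hd
  let e := e₁.trans e₂.symm
  have he : ∀ x, α * Qv (e x) = β * Qm x := fun x => by
    have h := he₂ (e₂.symm (e₁ x))
    rw [e₂.apply_symm_apply] at h
    rw [show e x = e₂.symm (e₁ x) from rfl, ← h, ← he₁ x]
    ring
  refine ⟨e.conjRingEquiv U, fun x => mul_left_cancel₀ hα ?_, ?_, fun h => hne ?_⟩
  · show α * Qv (e (U (e.symm x))) = _
    rw [he, hiso, ← he, e.apply_symm_apply]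
  · rw [← map_one e.conjRingEquiv, ← map_sub, ← map_pow, hz, map_zero]
  · rw [← map_one e.conjRingEquiv, ← map_sub, ← map_pow] at h
    exact (map_eq_zero_iff e.conjRingEquiv e.conjRingEquiv.injective).1 h

end model

section sub

variable {F : Type*} [Field F] {ι : Type} [Fintype ι] [DecidableEq ι] {Q : QuadraticForm F (ι → F)}

local notation "B" => QuadraticMap.polar (DFunLike.coe Q)

/-- The action as an endomorphism. -/
noncomputable def act (Q : QuadraticForm F (ι → F)) : Grp Q →* Module.End F (ι → F) :=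
  ((Matrix.toLinAlgEquiv' : Matrix ι ι F ≃ₐ[F] _).toMulEquiv.toMonoidHom.comp (Units.coeHom (Matrix ι ι F))).comp
    (Subgroup.subtype _)

theorem act_apply (g : Grp Q) (x : ι → F) : act Q g x = ap g x := rfl

theorem act_injective : Function.Injective (act Q) := fun _ _ e => ext_ap fun x => LinearMap.congr_fun e x

theorem ap_pow_eq (g : Grp Q) (k : ℕ) (x : ι → F) : ap (g ^ k) x = (act Q g ^ k) x := by
  rw [← map_pow]; rfl

theorem exists_nondeg_le (h2 : (2 : F) ≠ 0) {W : Submodule F (ι → F)} (hW : NondegOn Q W) :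
    ∀ k, k ≤ finrank F W → ∃ W' ≤ W, NondegOn Q W' ∧ finrank F W' + k = finrank F W := by
  intro k
  induction k with
  | zero => exact fun _ => ⟨W, le_rfl, hW, rfl⟩
  | succ k ih =>
    intro hk
    obtain ⟨W', hle, hnd, hd⟩ := ih (by omega)
    obtain ⟨w, hw, hQw⟩ : ∃ w ∈ W', Q w ≠ 0 := by
      by_contra hc
      push Not at hc
      obtain ⟨x, hx, hx0⟩ := Submodule.exists_mem_ne_zero_of_ne_bot (p := W') fun e => by
        rw [e, finrank_bot] at hd; omega
      exact hx0 (hnd x hx fun y hy => le_orth_of_singular hc hy x hx)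
    have hbw : B w w ≠ 0 := by rw [b_self]; exact mul_ne_zero h2 hQw
    let W'' := W' ⊓ LinearMap.ker (QuadraticMap.polarBilin Q w)
    have hmem : ∀ x, x ∈ W'' ↔ x ∈ W' ∧ B w x = 0 := fun x => Iff.rfl
    have hproj : ∀ y ∈ W', y - (B w y / B w w) • w ∈ W'' := fun y hy => (hmem _).2
      ⟨W'.sub_mem hy (W'.smul_mem _ hw), by rw [b_sub_right, b_smul_right, div_mul_cancel₀ _ hbw, sub_self]⟩
    refine ⟨W'', inf_le_left.trans hle, fun x hx h => hnd x hx.1 fun y hy => ?_, ?_⟩
    · have := h _ (hproj y hy)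
      rwa [b_sub_right, b_smul_right, b_comm x w, ((hmem x).1 hx).2, mul_zero, sub_zero] at this
    · have hlt : finrank F W'' < finrank F W' := Submodule.finrank_lt_finrank_of_lt
        (lt_of_le_of_ne inf_le_left fun e => hbw ((hmem w).1 (e.symm ▸ hw)).2)
      have h1 := Submodule.finrank_sup_add_finrank_inf_eq W'' (Submodule.span F {w})
      have h3 : W' ≤ W'' ⊔ Submodule.span F {w} := fun y hy => Submodule.mem_sup.2
        ⟨_, hproj y hy, _, Submodule.smul_mem _ _ (Submodule.mem_span_singleton_self w), sub_add_cancel _ _⟩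
      have h4 := Submodule.finrank_mono h3
      have h5 : finrank F (Submodule.span F {w}) = 1 :=
        finrank_span_singleton fun e => hQw (by rw [e, QuadraticMap.map_zero])
      omega

/-- An isometry that is regular unipotent on a non-degenerate subspace and trivial on its orthogonal. -/
theorem exists_unipotent_on [Finite F] (hB : Nondeg Q) (h2 : (2 : F) ≠ 0) {W : Submodule F (ι → F)}
    (hW : NondegOn Q W) {l : ℕ} (hl : 2 * l + 1 ≤ finrank F W) :
    ∃ U : Grp Q, (∀ x ∈ orth Q W, ap U x = x) ∧ (∀ x, ((act Q U - 1) ^ (2 * l + 1)) x = 0) ∧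
      ∃ v ∈ W, ((act Q U - 1) ^ (2 * l)) v ≠ 0 := by
  obtain ⟨W', hle, hnd, hd⟩ := exists_nondeg_le h2 hW (finrank F W - (2 * l + 1)) (by omega)
  have hsep : ∀ u : W', (∀ v : W', QuadraticMap.polar ⇑(Q.comp W'.subtype) u v = 0) → u = 0 := fun u hu =>
    Subtype.ext (hnd u u.2 fun y hy => by
      simpa [QuadraticMap.polar] using hu ⟨y, hy⟩)
  obtain ⟨U₀, hiso, hzU, hne⟩ := exists_regular h2 (Q.comp W'.subtype)
    ⟨hsep, fun v hv => hsep v fun u => by rw [QuadraticMap.polar_comm]; exact hv u⟩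
    (show finrank F W' = 2 * l + 1 by omega)
  have hc : IsCompl W' (orth Q W') := by
    refine ⟨disjoint_iff.2 ((Submodule.eq_bot_iff _).2 fun x hx => nondeg_inf hnd hx.1 hx.2), ?_⟩
    exact codisjoint_iff.2 (sup_orth_eq_top hB hnd)
  let m : (ι → F) →ₗ[F] (ι → F) := LinearMap.ofIsCompl hc (W'.subtype ∘ₗ U₀) (orth Q W').subtype
  have hm1 : ∀ w : W', m w = U₀ w := fun w => LinearMap.ofIsCompl_left_apply ..
  have hm2 : ∀ z ∈ orth Q W', m z = z := fun z hz => by
    exact LinearMap.ofIsCompl_right_apply hc (⟨z, hz⟩ : orth Q W')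
  obtain ⟨U, hU⟩ := exists_iso hB m fun x => by
    obtain ⟨w, hw, z, hz, rfl⟩ := exists_decomp hB hnd x
    have h := hiso ⟨w, hw⟩
    simp only [QuadraticMap.comp_apply, Submodule.subtype_apply] at h
    rw [map_add, hm1 ⟨w, hw⟩, hm2 z hz, q_add, q_add, h, mem_orth.1 hz w hw,
      mem_orth.1 hz _ (U₀ ⟨w, hw⟩).2]
  have hpw : ∀ (k : ℕ) (w : W'), ((act Q U - 1) ^ k : Module.End F (ι → F)) (w : ι → F) =
      ((((U₀ - 1) ^ k : Module.End F W') w : W') : ι → F) := fun k => by
    induction k with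
    | zero => intro w; rfl
    | succ k ih =>
      intro w
      rw [pow_succ, pow_succ, Module.End.mul_apply, Module.End.mul_apply, LinearMap.sub_apply,
        Module.End.one_apply, act_apply, hU, hm1, ← Submodule.coe_sub, ih, LinearMap.sub_apply,
        Module.End.one_apply]
  refine ⟨U, fun x hx => (hU x).trans (hm2 x (orth_le hle hx)), fun x => ?_, ?_⟩
  · obtain ⟨w, hw, z, hz, rfl⟩ := exists_decomp hB hnd x
    have hz0 : (act Q U - 1) z = 0 := by
      rw [LinearMap.sub_apply, Module.End.one_apply, act_apply, hU, hm2 z hz, sub_self]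
    rw [map_add, hpw _ ⟨w, hw⟩, hzU, pow_succ, Module.End.mul_apply, hz0, map_zero, add_zero]
    rfl
  · obtain ⟨v, hv⟩ : ∃ v, ((U₀ - 1) ^ (2 * l)) v ≠ 0 := by
      by_contra h
      push Not at h
      exact hne (LinearMap.ext h)
    exact ⟨v, hle v.2, by rw [hpw]; exact fun e => hv (Subtype.ext e)⟩

variable {p : ℕ} [Fact p.Prime] [CharP F p]

include p in
theorem orderOf_unipotent (U : Grp Q) {a : ℕ} {v : ι → F} (hv : ((act Q U - 1) ^ p ^ a) v ≠ 0)
    (hz : ∀ x, ((act Q U - 1) ^ p ^ (a + 1)) x = 0) : orderOf U = p ^ (a + 1) := by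
  refine orderOf_eq_prime_pow (fun h => hv ?_) (act_injective ?_)
  · rw [sub_one_pow_char F, ← map_pow, h, map_one, sub_self, LinearMap.zero_apply]
  · rw [map_pow, map_one, ← sub_eq_zero, ← sub_one_pow_char F]
    exact LinearMap.ext hz

include p in
/-- A unipotent isometry of order `p` with non-zero sum of its powers, on a subspace of dimension at least `p`. -/
theorem exists_order_p [Finite F] (hB : Nondeg Q) (h2 : (2 : F) ≠ 0) (hp : Odd p) {W : Submodule F (ι → F)}
    (hW : NondegOn Q W) (hd : p ≤ finrank F W) :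
    ∃ U : Grp Q, orderOf U = p ∧ (∀ x ∈ orth Q W, ap U x = x) ∧
      ∃ v ∈ W, ∑ i ∈ Finset.range p, ap (U ^ i) v ≠ 0 := by
  obtain ⟨l, rfl⟩ := hp
  obtain ⟨U, hfix, hz, v, hv, hne⟩ := exists_unipotent_on hB h2 hW hd
  have hl : 1 ≤ l := by
    have := Nat.Prime.two_le (Fact.out : (2 * l + 1).Prime)
    omega
  have hv1 : (act Q U - 1) v ≠ 0 := fun e => hne (by
    rw [show 2 * l = 2 * l - 1 + 1 by omega, pow_succ, Module.End.mul_apply, e, map_zero])
  refine ⟨U, ?_, hfix, v, hv, ?_⟩
  · simpa using orderOf_unipotent (p := 2 * l + 1) U (a := 0) (v := v) (by simpa using hv1) (by simpa using hz)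
  · have hg := geom_sum_char F (p := 2 * l + 1) (act Q U) 1
    rw [pow_one] at hg
    simp_rw [ap_pow_eq]
    rw [← LinearMap.sum_apply, hg]
    simpa using hne

end sub

end CfsgLib.Spectrum.OmegaNine
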