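import Cfsg.Agent.Lib.Spectrum.OmegaNine.Models
import Cfsg.Agent.Lib.Spectrum.OmegaNine.Unipotent

/-!
Element orders of `V ⋊ Ω⁻(8,q)`.
-/

set_option autoImplicit false
set_option linter.unusedSectionVars false

namespace CfsgLib.Spectrum.OmegaNine

open Module CfsgLib.Orth CfsgLib.Classical.OrthModels

variable {F : Type*} [Field F] [Fintype F] {p : ℕ} [Fact p.Prime] [CharP F p]
variable {ι : Type} [Fintype ι] [DecidableEq ι] {κ : Type} [Fintype κ] [DecidableEq κ]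
variable {μ : Type} [Fintype μ] [DecidableEq μ]

/-- An element of order `N` of Dickson invariant one and non-trivial spinor norm. -/
def TorG {Q : QuadraticForm F (ι → F)} (hB : Nondeg Q) (N : ℕ) : Prop :=
  ∃ g : Grp Q, orderOf g = N ∧ dickson hB g = 1 ∧ spinor Q 1 g = -1

/-- An element of `Ω` of order `N`. -/
def OmG (Q : QuadraticForm F (ι → F)) (N : ℕ) : Prop :=
  ∃ g : Grp Q, g ∈ Cfsg.Omega F ⇑Q ∧ orderOf g = N

theorem iso_osum {Qa : QuadraticForm F (ι → F)} {Qb : QuadraticForm F (κ → F)} {Q : QuadraticForm F (μ → F)}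
    (hI : Iso (add ⇑Qa ⇑Qb) ⇑Q) :
    ∃ e : (ι ⊕ κ → F) ≃ₗ[F] (μ → F), ∀ x, Q (e x) = 1 * osum Qa Qb x := by
  obtain ⟨e, he⟩ := hI
  exact ⟨(LinearEquiv.sumArrowLequivProdArrow ι κ F F).trans e, fun x => by
    rw [one_mul, LinearEquiv.trans_apply, he, osum_apply]; rfl⟩

theorem mem_omega_of_odd_order {Q : QuadraticForm F (ι → F)} (hB : Nondeg Q) (h2 : (2 : F) ≠ 0)
    (hn : 2 ≤ finrank F (ι → F)) {g : Grp Q} (hN : Odd (orderOf g)) : g ∈ Cfsg.Omega F ⇑Q := by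
  rw [(omega_eq_ker_psi hB h2 hn (one_ne_zero (α := F))).1, MonoidHom.mem_ker]
  have h := congrArg (psi hB (1 : F)) (pow_orderOf_eq_one g)
  rw [map_pow, map_one] at h
  obtain ⟨k, hk⟩ := hN
  have hsq : ∀ z : ℤˣ × ℤˣ, z ^ 2 = 1 := fun z => Prod.ext (Int.units_sq _) (Int.units_sq _)
  rwa [hk, pow_succ, pow_mul, hsq, one_pow, one_mul] at h

theorem TorG.combine {Qa : QuadraticForm F (ι → F)} {Qb : QuadraticForm F (κ → F)} {Q : QuadraticForm F (μ → F)}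
    {ha : Nondeg Qa} {hb : Nondeg Qb} (hB : Nondeg Q) (h2 : (2 : F) ≠ 0)
    (hn₁ : 2 ≤ finrank F (ι → F)) (hn₂ : 2 ≤ finrank F (κ → F)) {N N' : ℕ}
    (ga : TorG ha N) (gb : TorG hb N') (hI : Iso (add ⇑Qa ⇑Qb) ⇑Q) : OmG Q (Nat.lcm N N') := by
  obtain ⟨g, g1, g2, g3⟩ := ga
  obtain ⟨h, h1, h2', h3⟩ := gb
  obtain ⟨e, he⟩ := iso_osum hI
  obtain ⟨φ, -, hΩ, -⟩ := exists_transport hB e one_ne_zero he
  exact ⟨φ (blockHom Qa Qb (g, h)), (hΩ _).2 (block_mem ha hb h2 hn₁ hn₂ g2 h2' (g3.trans h3.symm)),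
    by rw [MulEquiv.orderOf_eq, orderOf_block, g1, h1]⟩

theorem OmG.spec {Q : QuadraticForm F (μ → F)} {N : ℕ} (h : OmG Q N) (q : ℕ) : Spec Q q N := by
  obtain ⟨g, hg, ho⟩ := h
  exact Or.inl ⟨g, hg, ho ▸ dvd_rfl⟩

include p in
theorem cast_ne_zero {N : ℕ} (h : N.Coprime p) : (N : F) ≠ 0 := fun e =>
  (Nat.Prime.coprime_iff_not_dvd Fact.out).1 h.symm ((CharP.cast_eq_zero_iff F p N).1 e)

include p in
/-- A block with a fixed vector on its orthogonal. -/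
theorem OmG.fixed_spec {Qa : QuadraticForm F (ι → F)} {Qb : QuadraticForm F (κ → F)} {Q : QuadraticForm F (μ → F)}
    (hB : Nondeg Q) [Nontrivial (κ → F)] {N : ℕ}
    (hN : N.Coprime p) (ga : OmG Qa N) (hI : Iso (add ⇑Qa ⇑Qb) ⇑Q) : Spec Q p (p * N) := by
  obtain ⟨g, hg, ho⟩ := ga
  obtain ⟨e, he⟩ := iso_osum hI
  refine Spec.of_sim hB e one_ne_zero he ?_
  obtain ⟨v, hv⟩ := exists_ne (0 : κ → F)
  have h := spec_of_block_sum (h := (1 : Grp Qb)) (g := g) (by rw [ho]; exact cast_ne_zero hN)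
    (hasSum_of_fixed (by simp) (ap_one v) hv) (blockHom_mem_omega Qa Qb hg (one_mem _)) p
  rwa [ho, orderOf_one, Nat.lcm_one_right] at h

include p in
/-- A block with a unipotent of order `p` on its orthogonal. -/
theorem OmG.unipotent_spec {Qa : QuadraticForm F (ι → F)} {Qb : QuadraticForm F (κ → F)} {Q : QuadraticForm F (μ → F)}
    (hB : Nondeg Q) (hb : Nondeg Qb) (h2 : (2 : F) ≠ 0) (hp : Odd p) (hd : p ≤ finrank F (κ → F)) {N : ℕ}
    (hN : N.Coprime p) (ga : OmG Qa N) (hI : Iso (add ⇑Qa ⇑Qb) ⇑Q) : Spec Q p (p * (N * p)) := by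
  obtain ⟨g, hg, ho⟩ := ga
  obtain ⟨e, he⟩ := iso_osum hI
  refine Spec.of_sim hB e one_ne_zero he ?_
  obtain ⟨U, hU, -, v, -, hv⟩ := exists_order_p (p := p) hb h2 hp (W := ⊤) (fun x _ hx => hb x fun y => hx y trivial)
    (by rwa [finrank_top])
  have hn : 2 ≤ finrank F (κ → F) := (Nat.Prime.two_le Fact.out).trans hd
  have h := spec_of_block_sum (h := U) (g := g) (by rw [ho]; exact cast_ne_zero hN) ⟨v, by rwa [hU]⟩
    (blockHom_mem_omega Qa Qb hg (mem_omega_of_odd_order hb h2 hn (by rwa [hU]))) p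
  rwa [ho, hU, Nat.Coprime.lcm_eq_mul hN] at h

include p in
theorem coprime_torus (hn : ℕ) (hn0 : hn ≠ 0) :
    (Fintype.card F ^ hn + 1).Coprime p ∧ (Fintype.card F ^ hn - 1).Coprime p := by
  obtain ⟨k, hp, hk⟩ := FiniteField.card F p
  obtain ⟨h1, h2⟩ := coprime_pow_add (p := p) (F := F) hn 1 hn0
  rw [pow_one] at h1 h2
  have hd : p ∣ Fintype.card F := hk ▸ dvd_pow_self p k.ne_zero
  exact ⟨h1.coprime_dvd_right hd, h2.coprime_dvd_right hd⟩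

theorem coprime_lcm {a b c : ℕ} (ha : a.Coprime c) (hb : b.Coprime c) : (Nat.lcm a b).Coprime c :=
  (Nat.Coprime.mul_left ha hb).coprime_dvd_left (Nat.lcm_dvd_mul a b)

include p in
/-- The orders found in `V ⋊ Ω⁻(8,q)`. -/
theorem targets (hq : Odd (Fintype.card F)) {a b : F}
    (hab : ∀ z₁ z₂ : F, z₁ ^ 2 + a * z₁ * z₂ + b * z₂ ^ 2 = 0 → z₁ = 0 ∧ z₂ = 0)
    {Q : QuadraticForm F ((Fin 3 ⊕ Fin 3) ⊕ Fin 2 → F)} (hQ : ⇑Q = Cfsg.quadFormMinus 3 F a b) (hB : Nondeg Q) :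
    let q := Fintype.card F
    (Spec Q p (Nat.lcm (q ^ 2 - 1) (q ^ 2 + 1)) ∧ Spec Q p (Nat.lcm (q ^ 3 - 1) (q + 1)) ∧
      Spec Q p (Nat.lcm (q - 1) (q ^ 3 + 1))) ∧
    (Spec Q p (p * (q ^ 2 - 1)) ∧ Spec Q p (p * Nat.lcm (q ^ 2 + 1) (q - 1)) ∧
      Spec Q p (p * Nat.lcm (q ^ 2 + 1) (q + 1))) ∧
    ((p ≤ 4 → Spec Q p (p * ((q - 1) * p)) ∧ Spec Q p (p * ((q + 1) * p))) ∧
      (p ≤ 6 → Spec Q p (p * (2 * p)))) := by
  intro q
  have h2 : (2 : F) ≠ 0 := fun e => by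
    have h := FiniteField.cast_card_eq_zero F
    obtain ⟨c, hc⟩ := hq
    rw [hc, Nat.cast_add, Nat.cast_mul, Nat.cast_ofNat, e, zero_mul, zero_add, Nat.cast_one] at h
    exact one_ne_zero h
  have hp : Odd p := by
    obtain ⟨k, -, hk⟩ := FiniteField.card F p
    rw [hk] at hq
    exact (Nat.odd_pow_iff k.ne_zero).1 hq
  obtain ⟨P1, hP1, nP1⟩ := exists_quadForm_plus (F := F) 1
  obtain ⟨P2, hP2, nP2⟩ := exists_quadForm_plus (F := F) 2
  obtain ⟨P3, hP3, nP3⟩ := exists_quadForm_plus (F := F) 3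
  obtain ⟨M0, hM0, nM0⟩ := exists_quadForm_minus 0 hab
  obtain ⟨M1, hM1, nM1⟩ := exists_quadForm_minus 1 hab
  obtain ⟨M2, hM2, nM2⟩ := exists_quadForm_minus 2 hab
  have gP1 : TorG nP1 (q - 1) := by
    have h := gen_plus (p := p) hq hab le_rfl hP1 nP1
    rwa [pow_one] at h
  have gP2 : TorG nP2 (q ^ 2 - 1) := gen_plus (p := p) hq hab one_le_two hP2 nP2
  have gP3 : TorG nP3 (q ^ 3 - 1) := gen_plus (p := p) hq hab (by norm_num) hP3 nP3
  have gM0 : TorG nM0 (q + 1) := by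
    have h := gen_minus (p := p) hq hab hM0 nM0
    rwa [zero_add, pow_one] at h
  have gM1 : TorG nM1 (q ^ 2 + 1) := gen_minus (p := p) hq hab hM1 nM1
  have gM2 : TorG nM2 (q ^ 3 + 1) := gen_minus (p := p) hq hab hM2 nM2
  have d : ∀ (η : Type) [Fintype η] (k : ℕ), Fintype.card η = k → 2 ≤ k → 2 ≤ finrank F (η → F) :=
    fun η _ k h hk => by rw [Module.finrank_pi]; omega
  have c1 := coprime_torus (p := p) (F := F) 1 one_ne_zero
  rw [pow_one] at c1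
  have c2 := coprime_torus (p := p) (F := F) 2 two_ne_zero
  have nt : Nontrivial (Fin 1 ⊕ Fin 1 → F) := inferInstance
  have j22 : Iso (add ⇑P2 ⇑M1) ⇑Q := by rw [hP2, hM1, hQ]; exact plus_minus 2 1 a b
  have j31 : Iso (add ⇑P3 ⇑M0) ⇑Q := by rw [hP3, hM0, hQ]; exact plus_minus 3 0 a b
  have j13 : Iso (add ⇑P1 ⇑M2) ⇑Q := by rw [hP1, hM2, hQ]; exact plus_minus 1 2 a b
  have j31' : Iso (add ⇑M2 ⇑P1) ⇑Q := by
    rw [hP1, hM2, hQ]; exact (Iso.sum_comm _ _).trans (plus_minus 1 2 a b)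
  have j13' : Iso (add ⇑M0 ⇑P3) ⇑Q := by
    rw [hP3, hM0, hQ]; exact (Iso.sum_comm _ _).trans (plus_minus 3 0 a b)
  have i21 : Iso (add ⇑P2 ⇑M0) ⇑M2 := by rw [hP2, hM0, hM2]; exact plus_minus 2 0 a b
  have i12 : Iso (add ⇑M1 ⇑P1) ⇑M2 := by
    rw [hP1, hM1, hM2]; exact (Iso.sum_comm _ _).trans (plus_minus 1 1 a b)
  have i3 : Iso (add ⇑M1 ⇑M0) ⇑P3 := by rw [hM1, hM0, hP3]; exact minus_minus 1 0 a b hab
  have i11 : Iso (add ⇑P1 ⇑P1) ⇑P2 := by rw [hP1, hP2]; exact plus_plus 1 1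
  have i00 : Iso (add ⇑M0 ⇑M0) ⇑P2 := by rw [hM0, hP2]; exact minus_minus 0 0 a b hab
  refine ⟨⟨(gP2.combine hB h2 (by simp) (by simp) gM1 j22).spec p,
    (gP3.combine hB h2 (by simp) (by simp) gM0 j31).spec p,
    (gP1.combine hB h2 (by simp) (by simp) gM2 j13).spec p⟩, ⟨?_, ?_, ?_⟩, fun hp4 => ⟨?_, ?_⟩, fun hp6 => ?_⟩
  · have h := gP2.combine nM2 h2 (by simp) (by simp) gM0 i21
    exact (h.fixed_spec hB (coprime_lcm c2.2 c1.1) j31').of_dvd (Nat.mul_dvd_mul_left p (Nat.dvd_lcm_left _ _))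
  · exact (gM1.combine nM2 h2 (by simp) (by simp) gP1 i12).fixed_spec hB (coprime_lcm c2.1 c1.2) j31'
  · exact (gM1.combine nP3 h2 (by simp) (by simp) gM0 i3).fixed_spec hB (coprime_lcm c2.1 c1.1) j31
  · have h := gP1.combine nP2 h2 (by simp) (by simp) gP1 i11
    rw [Nat.lcm_self] at h
    exact h.unipotent_spec hB nM1 h2 hp (by simp; omega) c1.2 j22
  · have h := gM0.combine nP2 h2 (by simp) (by simp) gM0 i00
    rw [Nat.lcm_self] at h
    exact h.unipotent_spec hB nM1 h2 hp (by simp; omega) c1.1 j22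
  · have hc : (2 : ℕ).Coprime p := Nat.coprime_two_left.2 hp
    have key : ∀ {η : Type} [Fintype η] [DecidableEq η] {R : QuadraticForm F (η → F)} {hR : Nondeg R},
        2 ≤ finrank F (η → F) → ∀ {N : ℕ}, 4 ∣ N → 0 < N → TorG hR N → OmG R 2 := by
      rintro η _ _ R hR hη N ⟨c, rfl⟩ hN0 ⟨g, ho, hd, hs⟩
      refine ⟨g ^ (2 * c), (mem_omega_iff hR hη (fun _ => fun e => h2 ?_) _).2 ⟨by rw [map_pow, hd, one_pow],
        fun _ => by rw [map_pow, hs, (even_two_mul c).neg_one_pow]⟩, ?_⟩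
      · rw [Nat.card_eq_fintype_card] at e
        have := FiniteField.cast_card_eq_zero F
        rwa [e, Nat.cast_ofNat] at this
      · rw [orderOf_pow' _ (by omega), ho, show 4 * c = 2 * c * 2 by ring, Nat.gcd_mul_right_left,
          Nat.mul_div_cancel_left _ (by omega)]
    have hq3 : 3 ≤ q := by
      obtain ⟨c, hc⟩ := hq
      have := Fintype.one_lt_card (α := F)
      omega
    obtain ⟨c, hc'⟩ := hq
    rcases Nat.even_or_odd c with ⟨d, hd⟩ | ⟨d, hd⟩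
    · exact (key (by simp) ⟨d, by omega⟩ (by omega) gP1).unipotent_spec hB nM2 h2 hp (by simp; omega) hc j13
    · exact (key (by simp) ⟨d + 1, by omega⟩ (by omega) gM0).unipotent_spec hB nP3 h2 hp (by simp; omega) hc j13'

end CfsgLib.Spectrum.OmegaNine
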