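import Cfsg.Agent.Lib.Classical.OmegaTests
import Cfsg.Agent.Lib.Classical.OrthSum

/-!
Similar quadratic spaces, blocks, and element orders of `V ⋊ Ω`.
-/

set_option autoImplicit false
set_option linter.unusedSectionVars false

namespace CfsgLib.Spectrum.OmegaNine

open CfsgLib.Orth
open scoped Matrix

variable {F : Type*} [Field F] {ι : Type} [Fintype ι] [DecidableEq ι] {κ : Type} [Fintype κ] [DecidableEq κ]

/-- The sum of the first `orderOf k` translates of a vector is non-zero for some vector. -/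
def HasSum {Q : QuadraticForm F (ι → F)} (k : Grp Q) : Prop :=
  ∃ v, ∑ i ∈ Finset.range (orderOf k), ap (k ^ i) v ≠ 0

/-- The element orders of `V ⋊ Ω` and their divisors. -/
def Spec (Q : QuadraticForm F (ι → F)) (p m : ℕ) : Prop :=
  (∃ k : Grp Q, k ∈ Cfsg.Omega F ⇑Q ∧ m ∣ orderOf k) ∨
    ∃ k : Grp Q, k ∈ Cfsg.Omega F ⇑Q ∧ HasSum k ∧ m ∣ p * orderOf k

theorem Spec.of_dvd {Q : QuadraticForm F (ι → F)} {p m m' : ℕ} (h : Spec Q p m') (hm : m ∣ m') : Spec Q p m :=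
  h.imp (fun ⟨k, hk, hd⟩ => ⟨k, hk, hm.trans hd⟩) fun ⟨k, hk, hs, hd⟩ => ⟨k, hk, hs, hm.trans hd⟩

theorem ap_neg {Q : QuadraticForm F (ι → F)} (g : Grp Q) (x : ι → F) : ap g (-x) = -ap g x :=
  Matrix.mulVec_neg _ _

theorem ap_sum {Q : QuadraticForm F (ι → F)} (g : Grp Q) {α : Type*} (s : Finset α) (f : α → ι → F) :
    ap g (∑ i ∈ s, f i) = ∑ i ∈ s, ap g (f i) :=
  map_sum (Matrix.mulVecLin ((g : GL ι F) : Matrix ι ι F)) f s

theorem ap_pow_fixed {Q : QuadraticForm F (ι → F)} {g : Grp Q} {x : ι → F} (h : ap g x = x) (i : ℕ) :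
    ap (g ^ i) x = x := by
  induction i with
  | zero => rw [pow_zero, ap_one]
  | succ i ih => rw [pow_succ, ap_mul, h, ih]

/-- A fixed vector gives a non-zero sum when the order is prime to the characteristic. -/
theorem hasSum_of_fixed {Q : QuadraticForm F (ι → F)} {k : Grp Q} (hk : (orderOf k : F) ≠ 0) {v : ι → F}
    (hv : ap k v = v) (hv0 : v ≠ 0) : HasSum k :=
  ⟨v, by
    rw [Finset.sum_congr rfl fun i _ => ap_pow_fixed hv i, Finset.sum_const, Finset.card_range,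
      ← Nat.cast_smul_eq_nsmul F]
    exact smul_ne_zero hk hv0⟩

theorem sum_range_periodic {M : Type*} [AddCommMonoid M] (f : ℕ → M) {N : ℕ} (h : ∀ i, f (i + N) = f i) :
    ∀ c : ℕ, ∑ i ∈ Finset.range (c * N), f i = c • ∑ i ∈ Finset.range N, f i := by
  intro c
  induction c with
  | zero => simp
  | succ c ih =>
    rw [add_mul, one_mul, add_comm, Finset.sum_range_add, succ_nsmul', ← ih]
    congr 1
    exact Finset.sum_congr rfl fun i _ => by rw [add_comm, h]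

section transport

variable {Q : QuadraticForm F (ι → F)} {Q' : QuadraticForm F (κ → F)}

theorem nondeg_of_sim (hB' : Nondeg Q') (e : (ι → F) ≃ₗ[F] (κ → F)) {c : F}
    (he : ∀ x, Q' (e x) = c * Q x) : Nondeg Q := by
  intro x hx
  refine e.map_eq_zero_iff.1 (hB' _ fun y => ?_)
  obtain ⟨z, rfl⟩ := e.surjective y
  have : QuadraticMap.polar ⇑Q' (e x) (e z) = c * QuadraticMap.polar ⇑Q x z := by
    simp only [QuadraticMap.polar, ← map_add, he]; ring
  rw [this, hx, mul_zero]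

/-- Similar spaces have the same groups. -/
theorem exists_transport (hB' : Nondeg Q') (e : (ι → F) ≃ₗ[F] (κ → F)) {c : F} (hc : c ≠ 0)
    (he : ∀ x, Q' (e x) = c * Q x) :
    ∃ φ : Grp Q ≃* Grp Q', (∀ g x, ap (φ g) (e x) = e (ap g x)) ∧
      (∀ g, φ g ∈ Cfsg.Omega F ⇑Q' ↔ g ∈ Cfsg.Omega F ⇑Q) ∧ ∀ g, HasSum g → HasSum (φ g) := by
  have hB := nondeg_of_sim hB' e he
  have h1 : ∀ g : Grp Q, ∃ G : Grp Q', ∀ y, ap G y = e (ap g (e.symm y)) := fun g =>
    exists_iso hB' (e.toLinearMap ∘ₗ Matrix.mulVecLin ((g : GL ι F) : Matrix ι ι F) ∘ₗ e.symm.toLinearMap)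
      fun y => by
        show Q' (e (ap g (e.symm y))) = Q' y
        rw [he, ap_q, ← he, e.apply_symm_apply]
  have h2 : ∀ G : Grp Q', ∃ g : Grp Q, ∀ x, ap g x = e.symm (ap G (e x)) := fun G =>
    exists_iso hB (e.symm.toLinearMap ∘ₗ Matrix.mulVecLin ((G : GL κ F) : Matrix κ κ F) ∘ₗ e.toLinearMap)
      fun x => by
        refine mul_left_cancel₀ hc ?_
        show c * Q (e.symm (ap G (e x))) = _
        rw [← he, e.apply_symm_apply, ap_q, he]
  choose f hf using h1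
  choose f' hf' using h2
  let φ : Grp Q ≃* Grp Q' :=
    { toFun := f
      invFun := f'
      left_inv := fun g => ext_ap fun x => by
        rw [hf', hf, e.symm_apply_apply, e.symm_apply_apply]
      right_inv := fun G => ext_ap fun y => by
        rw [hf, hf', e.apply_symm_apply, e.apply_symm_apply]
      map_mul' := fun g h => ext_ap fun y => by
        rw [ap_mul, hf, hf, hf, e.symm_apply_apply, ap_mul] }
  have hφ : ∀ g x, ap (φ g) (e x) = e (ap g x) := fun g x => by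
    show ap (f g) (e x) = _
    rw [hf, e.symm_apply_apply]
  refine ⟨φ, hφ, fun g => ?_, fun g => ?_⟩
  · show φ.toMonoidHom g ∈ commutator (Grp Q') ↔ g ∈ commutator (Grp Q)
    have hmap : (commutator (Grp Q)).map φ.toMonoidHom = commutator (Grp Q') := by
      rw [commutator_def, commutator_def, Subgroup.map_commutator,
        Subgroup.map_top_of_surjective _ φ.surjective]
    rw [← hmap, Subgroup.mem_map_iff_mem φ.injective]
  · rintro ⟨v, hv⟩
    refine ⟨e v, fun h => hv (e.map_eq_zero_iff.1 ?_)⟩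
    rw [MulEquiv.orderOf_eq] at h
    rw [map_sum, ← h]
    exact Finset.sum_congr rfl fun i _ => by rw [← map_pow φ g i, hφ]

theorem Spec.of_sim (hB' : Nondeg Q') (e : (ι → F) ≃ₗ[F] (κ → F)) {c : F} (hc : c ≠ 0)
    (he : ∀ x, Q' (e x) = c * Q x) {p m : ℕ} (h : Spec Q p m) : Spec Q' p m := by
  obtain ⟨φ, -, hΩ, hS⟩ := exists_transport hB' e hc he
  rcases h with ⟨k, hk, hd⟩ | ⟨k, hk, hs, hd⟩
  · exact Or.inl ⟨φ k, (hΩ k).2 hk, by rwa [MulEquiv.orderOf_eq]⟩
  · exact Or.inr ⟨φ k, (hΩ k).2 hk, hS k hs, by rwa [MulEquiv.orderOf_eq]⟩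

end transport

section block

variable [Finite F] {Q₁ : QuadraticForm F (ι → F)} {Q₂ : QuadraticForm F (κ → F)}

theorem ap_blockHom_pair (g : Grp Q₁) (h : Grp Q₂) (x : ι ⊕ κ → F) :
    ap (blockHom Q₁ Q₂ (g, h)) x = Sum.elim (ap g (x ∘ Sum.inl)) (ap h (x ∘ Sum.inr)) := by
  show Matrix.fromBlocks _ 0 0 _ *ᵥ x = _
  rw [Matrix.fromBlocks_mulVec, Matrix.zero_mulVec, Matrix.zero_mulVec, add_zero, zero_add]
  rfl

theorem blockHom_injective : Function.Injective (blockHom Q₁ Q₂) := by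
  rintro ⟨a, b⟩ ⟨a', b'⟩ h
  refine Prod.ext (ext_ap fun x => ?_) (ext_ap fun x => ?_)
  · have := congrArg (fun G => ap G (Sum.elim x 0) ∘ Sum.inl) h
    simpa [ap_blockHom_pair] using this
  · have := congrArg (fun G => ap G (Sum.elim 0 x) ∘ Sum.inr) h
    simpa [ap_blockHom_pair] using this

theorem orderOf_block (g : Grp Q₁) (h : Grp Q₂) :
    orderOf (blockHom Q₁ Q₂ (g, h)) = Nat.lcm (orderOf g) (orderOf h) := by
  rw [orderOf_injective _ blockHom_injective, Prod.orderOf_mk]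

theorem dickson_block (h₁ : Nondeg Q₁) (h₂ : Nondeg Q₂) (hF : (2 : F) ≠ 0) (g : Grp Q₁) :
    dickson (osum_nondeg h₁ h₂) (blockHom Q₁ Q₂ (g, 1)) = dickson h₁ g := by
  have hg : g ∈ Refl Q₁ := by
    rw [refl_eq_top h₁ fun _ e => hF ?_]
    · trivial
    · cases nonempty_fintype F
      rw [Nat.card_eq_fintype_card] at e
      have := FiniteField.cast_card_eq_zero F
      rwa [e, Nat.cast_ofNat] at this
  let j : Grp Q₁ →* Grp (osum Q₁ Q₂) := (blockHom Q₁ Q₂).comp (MonoidHom.inl _ _)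
  show dickson (osum_nondeg h₁ h₂) (j g) = _
  induction hg using Subgroup.closure_induction with
  | mem r hr =>
      obtain ⟨v, hr⟩ := hr
      rw [dickson_refl _ (show IsRefl _ (j r) from isRefl_block hr), dickson_refl h₁ hr]
  | one => simp only [map_one]
  | mul a b _ _ ha hb => rw [map_mul, map_mul, map_mul, ha, hb]
  | inv a _ ha => rw [map_inv, map_inv, map_inv, ha]

theorem spinor_block (h₁ : Nondeg Q₁) (h₂ : Nondeg Q₂) (hF : (2 : F) ≠ 0)
    (hn : 2 ≤ Module.finrank F (ι → F)) {g : Grp Q₁} (hg : dickson h₁ g = 1) :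
    spinor (osum Q₁ Q₂) 1 (blockHom Q₁ Q₂ (g, 1)) = spinor Q₁ 1 g := by
  have hch : Nat.card F ≠ 2 := fun e => hF (by
    cases nonempty_fintype F
    rw [Nat.card_eq_fintype_card] at e
    have := FiniteField.cast_card_eq_zero F
    rwa [e, Nat.cast_ofNat] at this)
  have hn' : 2 ≤ Module.finrank F (ι ⊕ κ → F) := by
    rw [Module.finrank_pi] at hn ⊢
    rw [Fintype.card_sum]; omega
  have hB := osum_nondeg h₁ h₂
  have hiff : blockHom Q₁ Q₂ (g, 1) ∈ Cfsg.Omega F ⇑(osum Q₁ Q₂) ↔ g ∈ Cfsg.Omega F ⇑Q₁ :=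
    ⟨mem_omega_of_block h₁ h₂ (fun _ => hch), fun h => blockHom_mem_omega Q₁ Q₂ h (one_mem _)⟩
  rw [mem_omega_iff hB hn' (fun _ => hch), mem_omega_iff h₁ hn (fun _ => hch), dickson_block h₁ h₂ hF, hg] at hiff
  simp only [true_and, hF, not_false_eq_true, forall_const, ne_eq] at hiff
  rcases Int.units_eq_one_or (spinor Q₁ 1 g) with h | h
  · rw [h, hiff.2 h]
  · rcases Int.units_eq_one_or (spinor (osum Q₁ Q₂) 1 (blockHom Q₁ Q₂ (g, 1))) with h' | h'
    · rw [hiff.1 h'] at h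
      exact absurd h (by decide)
    · rw [h, h']

/-- Blocks of equal class give an element of `Ω`. -/
theorem block_mem (h₁ : Nondeg Q₁) (h₂ : Nondeg Q₂) (hF : (2 : F) ≠ 0)
    (hn₁ : 2 ≤ Module.finrank F (ι → F)) (hn₂ : 2 ≤ Module.finrank F (κ → F))
    {g : Grp Q₁} {h : Grp Q₂} (hg : dickson h₁ g = 1) (hh : dickson h₂ h = 1)
    (hs : spinor Q₁ 1 g = spinor Q₂ 1 h) : blockHom Q₁ Q₂ (g, h) ∈ Cfsg.Omega F ⇑(osum Q₁ Q₂) := by
  have hch : Nat.card F ≠ 2 := fun e => hF (by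
    cases nonempty_fintype F
    rw [Nat.card_eq_fintype_card] at e
    have := FiniteField.cast_card_eq_zero F
    rwa [e, Nat.cast_ofNat] at this)
  have hn' : 2 ≤ Module.finrank F (ι ⊕ κ → F) := by
    rw [Module.finrank_pi] at hn₁ ⊢
    rw [Fintype.card_sum]; omega
  let w : (κ ⊕ ι → F) ≃ₗ[F] (ι ⊕ κ → F) := LinearEquiv.funCongrLeft F F (Equiv.sumComm ι κ)
  obtain ⟨φ, hφ, hΩ, -⟩ := exists_transport (osum_nondeg h₁ h₂) (Q := osum Q₂ Q₁) w one_ne_zero fun x => by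
    rw [osum_apply, osum_apply, one_mul, add_comm]
    rfl
  have hsw : ∀ (a : Grp Q₁) (b : Grp Q₂), φ (blockHom Q₂ Q₁ (b, a)) = blockHom Q₁ Q₂ (a, b) :=
    fun a b => ext_ap fun y => by
      obtain ⟨x, rfl⟩ := w.surjective y
      rw [hφ, ap_blockHom_pair, ap_blockHom_pair]
      funext i
      rcases i with i | i <;> rfl
  rcases Int.units_eq_one_or (spinor Q₂ 1 h) with e | e
  · exact blockHom_mem_omega _ _ ((mem_omega_iff h₁ hn₁ (fun _ => hch) g).2 ⟨hg, fun _ => hs.trans e⟩)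
      ((mem_omega_iff h₂ hn₂ (fun _ => hch) h).2 ⟨hh, fun _ => e⟩)
  have hA : dickson (osum_nondeg h₁ h₂) (blockHom Q₁ Q₂ (g, 1)) = 1 := (dickson_block h₁ h₂ hF g).trans hg
  have hB1 : spinor (osum Q₁ Q₂) 1 (blockHom Q₁ Q₂ (g, 1)) = -1 := by
    rw [spinor_block h₁ h₂ hF hn₁ hg, hs, e]
  have hB2 : spinor (osum Q₁ Q₂) 1 (blockHom Q₁ Q₂ (1, h)) = -1 := by
    rcases Int.units_eq_one_or (spinor (osum Q₁ Q₂) 1 (blockHom Q₁ Q₂ (1, h))) with h' | h'
    · exfalso
      have hd : dickson (osum_nondeg h₁ h₂) (blockHom Q₁ Q₂ (1, h)) = 1 := by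
        have : fixSpace (blockHom Q₁ Q₂ (1, h)) =
            (fixSpace (blockHom Q₂ Q₁ (h, 1))).map w.toLinearMap := by
          ext y
          rw [Submodule.mem_map_equiv, mem_fixSpace, mem_fixSpace, ← hsw]
          obtain ⟨x, rfl⟩ := w.surjective y
          rw [w.symm_apply_apply, hφ]
          exact w.injective.eq_iff
        show (-1 : ℤˣ) ^ (_ + _) = 1
        rw [this, LinearEquiv.finrank_map_eq, ← w.finrank_eq]
        exact (dickson_block h₂ h₁ hF h).trans hh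
      have hm : blockHom Q₁ Q₂ (1, h) ∈ Cfsg.Omega F ⇑(osum Q₁ Q₂) :=
        (mem_omega_iff (osum_nondeg h₁ h₂) hn' (fun _ => hch) _).2 ⟨hd, fun _ => h'⟩
      rw [← hsw, hΩ] at hm
      have := ((mem_omega_iff h₂ hn₂ (fun _ => hch) h).1 (mem_omega_of_block h₂ h₁ (fun _ => hch) hm)).2 hF
      rw [e] at this
      exact absurd this (by decide)
    · exact h'
  have hC : dickson (osum_nondeg h₁ h₂) (blockHom Q₁ Q₂ (1, h)) = 1 := by
    have : fixSpace (blockHom Q₁ Q₂ (1, h)) = (fixSpace (blockHom Q₂ Q₁ (h, 1))).map w.toLinearMap := by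
      ext y
      rw [Submodule.mem_map_equiv, mem_fixSpace, mem_fixSpace, ← hsw]
      obtain ⟨x, rfl⟩ := w.surjective y
      rw [w.symm_apply_apply, hφ]
      exact w.injective.eq_iff
    show (-1 : ℤˣ) ^ (_ + _) = 1
    rw [this, LinearEquiv.finrank_map_eq, ← w.finrank_eq]
    exact (dickson_block h₂ h₁ hF h).trans hh
  rw [show (g, h) = (g, (1 : Grp Q₂)) * ((1 : Grp Q₁), h) by simp, map_mul,
    mem_omega_iff (osum_nondeg h₁ h₂) hn' (fun _ => hch), map_mul, map_mul, hA, hC, hB1, hB2]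
  exact ⟨one_mul _, fun _ => by decide⟩

theorem spec_of_block {g : Grp Q₁} {h : Grp Q₂}
    (hm : blockHom Q₁ Q₂ (g, h) ∈ Cfsg.Omega F ⇑(osum Q₁ Q₂)) (p : ℕ) :
    Spec (osum Q₁ Q₂) p (Nat.lcm (orderOf g) (orderOf h)) :=
  Or.inl ⟨_, hm, by rw [orderOf_block]⟩

theorem spec_of_block_sum {g : Grp Q₁} {h : Grp Q₂} (hg : (orderOf g : F) ≠ 0) (hs : HasSum h)
    (hm : blockHom Q₁ Q₂ (g, h) ∈ Cfsg.Omega F ⇑(osum Q₁ Q₂)) (p : ℕ) :
    Spec (osum Q₁ Q₂) p (p * Nat.lcm (orderOf g) (orderOf h)) := by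
  refine Or.inr ⟨_, hm, ?_, by rw [orderOf_block]⟩
  obtain ⟨v, hv⟩ := hs
  refine ⟨Sum.elim 0 v, fun e => hv ?_⟩
  rw [orderOf_block] at e
  obtain ⟨c, hc⟩ := Nat.dvd_lcm_right (orderOf g) (orderOf h)
  have hcd : c ∣ orderOf g := by
    have h0 : 0 < orderOf h := orderOf_pos h
    have h1 : Nat.lcm (orderOf g) (orderOf h) ∣ orderOf g * orderOf h := Nat.lcm_dvd (dvd_mul_right _ _) (dvd_mul_left _ _)
    rw [hc, mul_comm] at h1
    exact Nat.dvd_of_mul_dvd_mul_right h0 h1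
  have hc0 : (c : F) ≠ 0 := fun e0 => hg (by
    obtain ⟨d, hd⟩ := hcd
    rw [hd, Nat.cast_mul, e0, zero_mul])
  have e2 : ∑ i ∈ Finset.range (c * orderOf h), ap (h ^ i) v = 0 := by
    rw [mul_comm, ← hc]
    funext j
    have := congrFun e (Sum.inr j)
    rw [Pi.zero_apply, Finset.sum_apply] at this
    rw [Pi.zero_apply, Finset.sum_apply, ← this]
    refine Finset.sum_congr rfl fun i _ => ?_
    rw [← map_pow, Prod.pow_mk, ap_blockHom_pair, Sum.elim_comp_inr]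
    rfl
  rw [sum_range_periodic _ (fun i => by rw [pow_add, pow_orderOf_eq_one, mul_one]), ← Nat.cast_smul_eq_nsmul F,
    smul_eq_zero] at e2
  exact e2.resolve_left hc0

end block

end CfsgLib.Spectrum.OmegaNine
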