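import Cfsg.Agent.Lib.Spectrum.OmegaNine.Split
import Cfsg.Agent.Lib.SympPrimeGraph.Commutant

/-!
Nilpotent maps commuting with semisimple ones, and unipotent isometries of even-dimensional spaces.
-/

set_option autoImplicit false
set_option linter.unusedSectionVars false

namespace CfsgLib.Spectrum.OmegaNine

open Polynomial CfsgLib.SteinbergSemisimple CfsgLib.SympPrimeGraph

section mod

variable {F : Type*} [Field F] [Fintype F]
variable {M : Type*} [AddCommGroup M] [Module F M] [Module F[X] M] [IsScalarTower F F[X] M]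
  [Finite M] [IsSemisimpleModule F[X] M]

theorem subCharpoly_dvd {A W : Submodule F[X] M} (h : A ≤ W) :
    subCharpoly (F := F) A ∣ subCharpoly (F := F) W := by
  obtain ⟨C, h1, h2⟩ := exists_compl_in h
  exact ⟨_, (split h1 h2).1⟩

theorem exists_chain_mod {T : M →ₗ[F[X]] M} {j : ℕ} (hj : T ^ j ≠ 0) (hnil : IsNilpotent T) :
    ∃ P : F[X], Irreducible P ∧ P.Monic ∧ P ^ (j + 1) ∣ (mulX (F := F) M).charpoly ∧
      ∃ x, x ≠ 0 ∧ x ∈ LinearMap.range (T ^ j) ∧ P • x = 0 := by
  classical
  obtain ⟨J, hJj, hJ, hJ1⟩ : ∃ J, j ≤ J ∧ T ^ J ≠ 0 ∧ T ^ (J + 1) = 0 := by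
    have hex : ∃ k, T ^ k = 0 := hnil
    have hk := Nat.find_spec hex
    have hlt : j < Nat.find hex := by
      by_contra h
      obtain ⟨d, hd⟩ := Nat.exists_eq_add_of_le (not_lt.1 h)
      exact hj (by rw [hd, pow_add, hk, zero_mul])
    exact ⟨Nat.find hex - 1, by omega, Nat.find_min hex (by omega), by rwa [Nat.sub_add_cancel (by omega)]⟩
  have hbot : LinearMap.range (T ^ J) ≠ ⊥ := fun e => hJ (LinearMap.range_eq_bot.1 e)
  obtain ⟨A, hAW, hA⟩ := exists_simple_le hbot
  have : IsSimpleModule F[X] A := isSimpleModule_iff_isAtom.2 hA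
  obtain ⟨P, hPm, hP, hcp, -, hkill, -⟩ := simple_data (F := F) (A := A)
  have hmono : ∀ i, i ≤ J → LinearMap.range (T ^ J) ≤ LinearMap.range (T ^ i) := fun i hi => by
    rintro _ ⟨y, rfl⟩
    exact ⟨(T ^ (J - i)) y, by rw [← Module.End.mul_apply, ← pow_add, Nat.add_sub_cancel' hi]⟩
  have hker : LinearMap.range (T ^ J) ≤ LinearMap.ker T := by
    rintro _ ⟨y, rfl⟩
    rw [LinearMap.mem_ker, ← Module.End.mul_apply, ← pow_succ', hJ1, LinearMap.zero_apply]
  have hmain : ∀ d, d ≤ J → P ^ (d + 1) ∣ subCharpoly (F := F) (LinearMap.range (T ^ (J - d))) := by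
    intro d
    induction d with
    | zero =>
      intro _
      rw [Nat.zero_add, pow_one, Nat.sub_zero, ← hcp]
      exact subCharpoly_dvd hAW
    | succ d ih =>
      intro hd
      set W := LinearMap.range (T ^ (J - (d + 1))) with hW
      obtain ⟨C, h1, h2⟩ := exists_compl_in (show W ⊓ LinearMap.ker T ≤ W from inf_le_left)
      rw [(split h1 h2).1, pow_succ']
      refine mul_dvd_mul (hcp ▸ subCharpoly_dvd (le_inf (hAW.trans (hmono _ (Nat.sub_le _ _))) (hAW.trans hker))) ?_
      have hCW : C ≤ W := h1 ▸ le_sup_right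
      have hWT : W.map T = LinearMap.range (T ^ (J - d)) := by
        rw [hW, ← LinearMap.range_comp, ← Module.End.mul_eq_comp, ← pow_succ',
          show J - (d + 1) + 1 = J - d by omega]
      have hinj : Function.Injective (T.comp C.subtype) := by
        rw [← LinearMap.ker_eq_bot, Submodule.eq_bot_iff]
        intro x hx
        refine Subtype.ext ((Submodule.mem_bot F[X]).1 (h2 ▸ ⟨⟨hCW x.2, ?_⟩, x.2⟩))
        exact hx
      have hrange : LinearMap.range (T.comp C.subtype) = LinearMap.range (T ^ (J - d)) := by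
        rw [LinearMap.range_comp, Submodule.range_subtype, ← hWT]
        refine le_antisymm (Submodule.map_mono hCW) ?_
        rintro _ ⟨w, hw, rfl⟩
        rw [← h1] at hw
        obtain ⟨a, ha, c, hc, rfl⟩ := Submodule.mem_sup.1 hw
        exact ⟨c, hc, by rw [map_add, LinearMap.mem_ker.1 ha.2, zero_add]⟩
      have e := charpoly_congr (F := F) ((LinearEquiv.ofInjective _ hinj).trans (LinearEquiv.ofEq _ _ hrange))
      have h := ih (by omega)
      rw [subCharpoly, e] at h
      exact h
  have hfin := hmain J le_rfl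
  rw [Nat.sub_self, pow_zero, show LinearMap.range (1 : Module.End F[X] M) = ⊤ from LinearMap.range_id,
    ← charpoly_top] at hfin
  obtain ⟨x, hx, hx0⟩ := Submodule.exists_mem_ne_zero_of_ne_bot hA.1
  exact ⟨P, hP, hPm, (pow_dvd_pow P (by omega)).trans hfin, x, hx0, hmono j hJj |> fun h => by
    obtain ⟨y, hy⟩ := hAW hx
    exact ⟨(T ^ (J - j)) y, by rw [← Module.End.mul_apply, ← pow_add, Nat.add_sub_cancel' hJj, hy]⟩,
    congrArg Subtype.val (hkill ⟨x, hx⟩)⟩

end mod

section endo

variable {F : Type*} [Field F] [Fintype F] {V : Type*} [AddCommGroup V] [Module F V] [Finite V]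

/-- A non-vanishing power of a nilpotent map in the centraliser of a semisimple one gives a repeated factor. -/
theorem exists_chain {f : Module.End F V} {R : F[X]} (hs : Squarefree R) (hR : aeval f R = 0)
    {N : Module.End F V} (hc : Commute N f) (hN : IsNilpotent N) {j : ℕ} (hj : N ^ j ≠ 0) :
    ∃ P : F[X], Irreducible P ∧ P.Monic ∧ P ^ (j + 1) ∣ f.charpoly ∧
      ∃ y, (N ^ j) y ≠ 0 ∧ aeval f P ((N ^ j) y) = 0 := by
  have : IsSemisimpleModule F[X] (Module.AEval' f) :=
    Module.End.isSemisimple_of_squarefree_aeval_eq_zero hs hR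
  let T : Module.AEval' f →ₗ[F[X]] Module.AEval' f :=
    LinearMap.ofAEval _ ((Module.AEval'.of f).toLinearMap.comp N) fun v => by
      show Module.AEval'.of f (N (f v)) = (X : F[X]) • Module.AEval'.of f (N v)
      rw [Module.AEval'.X_smul_of]
      exact congrArg (Module.AEval'.of f) (LinearMap.congr_fun hc.eq v)
  have hT : ∀ v, T (Module.AEval'.of f v) = Module.AEval'.of f (N v) := fun v => by
    show Module.AEval'.of f (N ((Module.AEval'.of f).symm (Module.AEval'.of f v))) = _
    rw [LinearEquiv.symm_apply_apply]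
  have hTk : ∀ k v, (T ^ k) (Module.AEval'.of f v) = Module.AEval'.of f ((N ^ k) v) := by
    intro k
    induction k with
    | zero => intro v; rfl
    | succ k ih =>
      intro v
      rw [pow_succ, pow_succ, Module.End.mul_apply, Module.End.mul_apply, hT, ih]
  obtain ⟨P, hP, hPm, hd, x, hx0, ⟨z, rfl⟩, hPx⟩ := exists_chain_mod (F := F) (T := T) (j := j)
    (fun e => hj (LinearMap.ext fun v => (Module.AEval'.of f).injective (by
      rw [← hTk, e, LinearMap.zero_apply, LinearMap.zero_apply, map_zero])))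
    (by
      obtain ⟨k, hk⟩ := hN
      refine ⟨k, LinearMap.ext fun v => ?_⟩
      obtain ⟨w, rfl⟩ := (Module.AEval'.of f).surjective v
      rw [hTk, hk, LinearMap.zero_apply, map_zero, LinearMap.zero_apply])
  obtain ⟨y, rfl⟩ := (Module.AEval'.of f).surjective z
  rw [hTk] at hx0 hPx
  refine ⟨P, hP, hPm, by rwa [charpoly_mulX] at hd, y, fun e => hx0 (by rw [e, map_zero]), ?_⟩
  rw [← Module.AEval.of_aeval_smul] at hPx
  exact (Module.AEval'.of f).map_eq_zero_iff.1 hPx

end endo

section block

open CfsgLib.Orth Module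

variable {F : Type*} [Field F] [Finite F] {ι : Type} [Fintype ι] [DecidableEq ι] {Q : QuadraticForm F (ι → F)}

local notation "B" => QuadraticMap.polar (DFunLike.coe Q)

/-- A unipotent isometry of an even-dimensional space is not a single block. -/
theorem even_block (h2 : (2 : F) ≠ 0) (g : Grp Q) {K : Submodule F (ι → F)} (hK : NondegOn Q K)
    (hinv : ∀ x ∈ K, ap g x ∈ K) {J : ℕ} (hJ : ∀ x ∈ K, ((act Q g - 1) ^ J) x = 0) {k : ℕ}
    (hk : finrank F K = 2 * k) {v : ι → F} (hv : v ∈ K) : ((act Q g - 1) ^ (2 * k - 1)) v = 0 := by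
  rcases Nat.eq_zero_or_pos k with rfl | hk0
  · have : K = ⊥ := Submodule.finrank_eq_zero.1 (by rw [hk, mul_zero])
    rw [this, Submodule.mem_bot] at hv
    rw [hv, map_zero]
  set T := act Q g - 1 with hT
  set T' := act Q g⁻¹ - 1
  have hTK : ∀ x ∈ K, T x ∈ K := fun x hx => K.sub_mem (hinv x hx) hx
  have hTiK : ∀ (i : ℕ), ∀ x ∈ K, (T ^ i) x ∈ K := fun i => by
    induction i with
    | zero => intro x hx; exact hx
    | succ i ih => intro x hx; rw [pow_succ, Module.End.mul_apply]; exact ih _ (hTK x hx)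
  have htop : ∀ x ∈ K, ∀ i, 2 * k ≤ i → (T ^ i) x = 0 := fun x hx i hi => by
    by_contra h
    have := lt_finrank T K hTK hJ hx h
    omega
  have hadj : ∀ (i : ℕ) x y, B ((T ^ i) x) y = B x ((T' ^ i) y) := fun i => by
    induction i with
    | zero => intro x y; rfl
    | succ i ih =>
      intro x y
      rw [pow_succ', Module.End.mul_apply, pow_succ, Module.End.mul_apply, ← ih]
      simp only [hT, T', LinearMap.sub_apply, Module.End.one_apply, act_apply]
      rw [b_sub_left, b_sub_right, ap_b_left]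
  have hneg : T' = (-1 : F) • (act Q g⁻¹ * T) := by
    refine LinearMap.ext fun x => ?_
    simp only [T', hT, LinearMap.sub_apply, LinearMap.smul_apply, Module.End.mul_apply, Module.End.one_apply,
      act_apply, ap_sub, ap_inv_ap]
    module
  have hcomm : Commute (act Q g⁻¹) T := by
    refine Commute.sub_right ?_ (Commute.one_right _)
    exact ((Commute.refl g).inv_left).map (act Q)
  have hanti : ∀ y ∈ K, (T' ^ (2 * k - 1)) y = -((T ^ (2 * k - 1)) y) := by
    intro y hy
    have e : T' ^ (2 * k - 1) = -((act Q g⁻¹ * T) ^ (2 * k - 1)) := by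
      rw [hneg, _root_.smul_pow, (show Odd (2 * k - 1) from ⟨k - 1, by omega⟩).neg_one_pow, neg_one_smul]
    rw [e, hcomm.mul_pow, LinearMap.neg_apply, Module.End.mul_apply, neg_inj,
      ← map_pow]
    refine ap_pow_fixed ?_ _
    have h := htop y hy (2 * k - 1 + 1) (by omega)
    rw [pow_succ', Module.End.mul_apply] at h
    simp only [hT, LinearMap.sub_apply, Module.End.one_apply, sub_eq_zero, act_apply] at h
    conv_lhs => rw [← h]
    exact ap_inv_ap g _
  by_contra hz
  set z := (T ^ (2 * k - 1)) v with hzdef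
  have hperp : ∀ i, B z ((T ^ i) v) = 0 := by
    intro i
    rcases Nat.eq_zero_or_pos i with rfl | hi
    · have h := hadj (2 * k - 1) v v
      rw [hanti v hv, ← hzdef] at h
      have h' : B v (-z) = -(B v z) := by
        rw [← neg_one_smul F z, b_smul_right, neg_one_mul]
      rw [h', b_comm v z] at h
      rw [pow_zero, Module.End.one_apply]
      exact (mul_eq_zero.1 (show (2 : F) * B z v = 0 by linear_combination h)).resolve_left h2
    · rw [hzdef, hadj, hanti _ (hTiK i v hv), ← Module.End.mul_apply, ← pow_add,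
        htop v hv _ (by omega), neg_zero, b_zero_right]
  let S : ℕ → Submodule F (ι → F) := fun i => Submodule.span F ((fun j => (T ^ j) v) '' Set.Ico i (2 * k))
  have hS : ∀ d, d ≤ 2 * k → d ≤ finrank F (S (2 * k - d)) := by
    intro d
    induction d with
    | zero => intro _; exact Nat.zero_le _
    | succ d ih =>
      intro hd
      have hlt : S (2 * k - d) < S (2 * k - (d + 1)) := by
        refine lt_of_le_of_ne (Submodule.span_mono (Set.image_mono (Set.Ico_subset_Ico_left (by omega)))) fun e => hz ?_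
        have hmem : (T ^ (2 * k - (d + 1))) v ∈ S (2 * k - d) :=
          e ▸ Submodule.subset_span ⟨_, ⟨le_rfl, by omega⟩, rfl⟩
        have hkill : S (2 * k - d) ≤ LinearMap.ker (T ^ d) := Submodule.span_le.2 (by
          rintro _ ⟨i, hi, rfl⟩
          rw [SetLike.mem_coe, LinearMap.mem_ker, ← Module.End.mul_apply, ← pow_add]
          exact htop v hv _ (by have := hi.1; omega))
        have h := hkill hmem
        rw [LinearMap.mem_ker, ← Module.End.mul_apply, ← pow_add, show d + (2 * k - (d + 1)) = 2 * k - 1 by omega] at h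
        exact h
      have := Submodule.finrank_lt_finrank_of_lt hlt
      have := ih (by omega)
      omega
  have hle : S 0 ≤ K := Submodule.span_le.2 (by rintro _ ⟨i, -, rfl⟩; exact hTiK i v hv)
  have hKS : S 0 = K := Submodule.eq_of_le_of_finrank_le hle (by
    have := hS (2 * k) le_rfl
    rw [Nat.sub_self] at this
    omega)
  have hle2 : S 0 ≤ LinearMap.ker (QuadraticMap.polarBilin Q z) := Submodule.span_le.2 (by
    rintro _ ⟨i, -, rfl⟩
    exact hperp i)
  rw [hKS] at hle2
  exact hz (hK z (hTiK _ v hv) fun y hy => hle2 hy)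

end block

end CfsgLib.Spectrum.OmegaNine
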