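import Cfsg.Agent.Lib.Spectrum.OmegaNine.Split
import Cfsg.Agent.Lib.Spectrum.OmegaNine.Targets

/-!
Element orders of `V ⋊ Ω⁻(8,q)` inside `Ω(9,q)`.
-/

set_option autoImplicit false
set_option linter.unusedSectionVars false
set_option maxHeartbeats 800000

namespace CfsgLib.Spectrum.OmegaNine

open Module CfsgLib.Orth CfsgLib.Classical.OrthModels

variable {F : Type*} [Field F] [Fintype F] {p : ℕ} [Fact p.Prime] [CharP F p]
variable {ι : Type} [Fintype ι] [DecidableEq ι] {Q : QuadraticForm F (ι → F)}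

local notation "B" => QuadraticMap.polar (DFunLike.coe Q)

include p in
theorem p_facts (h2 : (2 : F) ≠ 0) : 3 ≤ p ∧ Odd p := by
  have hp : p.Prime := Fact.out
  rcases hp.eq_two_or_odd' with rfl | h
  · exact absurd (by exact_mod_cast CharP.cast_eq_zero F 2) h2
  · exact ⟨by obtain ⟨c, hc⟩ := h; have := hp.two_le; omega, h⟩

theorem geom_split {A : Type*} [Semiring A] (T : A) (N : ℕ) : ∀ m,
    ∑ i ∈ Finset.range (m * N), T ^ i = (∑ b ∈ Finset.range N, T ^ b) * ∑ a ∈ Finset.range m, (T ^ N) ^ a := by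
  intro m
  induction m with
  | zero => simp
  | succ m ih =>
    rw [Nat.succ_mul, Finset.sum_range_add, ih, Finset.sum_range_succ _ m, mul_add]
    congr 1
    rw [Finset.sum_mul]
    exact Finset.sum_congr rfl fun b _ => by rw [← pow_mul, ← pow_add, add_comm, mul_comm]

/-- Isometries trivial on complementary subspaces commute. -/
theorem commute_of_fix (hB : Nondeg Q) {W : Submodule F (ι → F)} (hW : NondegOn Q W) {s U : Grp Q}
    (hs : ∀ x ∈ W, ap s x = x) (hU : ∀ x ∈ orth Q W, ap U x = x) : Commute s U := ext_ap fun x => by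
  obtain ⟨a, ha, b, hb, rfl⟩ := exists_decomp hB hW x
  have h1 : ap U a ∈ W := by
    suffices h : ap U a ∈ orth Q (orth Q W) by rwa [orth_orth hB W] at h
    refine orth_invariant (fun z hz => ?_) (by rwa [orth_orth hB W])
    have e : ap U⁻¹ z = z := by
      conv_lhs => rw [← hU z hz]
      exact ap_inv_ap U z
    rwa [e]
  have h2 : ap s b ∈ orth Q W := orth_invariant (fun z hz => by
    have e : ap s⁻¹ z = z := by
      conv_lhs => rw [← hs z hz]
      exact ap_inv_ap s z
    rwa [e]) hb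
  simp only [ap_mul, ap_add, hs a ha, hU b hb, hs _ h1, hU _ h2]

theorem finrank_perp_lt {V : Submodule F (ι → F)} {w : ι → F} (hw : w ∈ V) (h : B w w ≠ 0) :
    finrank F ↥(V ⊓ orth Q (Submodule.span F {w})) < finrank F V :=
  Submodule.finrank_lt_finrank_of_lt (lt_of_le_of_ne inf_le_left fun e =>
    h (b_eq_zero_of_orth_span (e.symm ▸ hw : w ∈ V ⊓ orth Q (Submodule.span F {w})).2))

variable {κ : Type} [Fintype κ] [DecidableEq κ] {Q₀ : QuadraticForm F (κ → F)}

/-- A vector with orthogonal similar to the given space, and the extension of its group. -/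
theorem exists_good (hB : Nondeg Q) (h0 : Nondeg Q₀) (h2 : (2 : F) ≠ 0) {l : F} (hl : l ≠ 0)
    (Φ : (κ ⊕ Unit → F) ≃ₗ[F] (ι → F)) (hΦ : ∀ x, Q (Φ x) = l * osum Q₀ (lineForm 1) x) :
    ∃ w, Good Q Q₀ w ∧ ∃ e : (κ → F) →ₗ[F] (ι → F), Function.Injective e ∧ (∀ x, B w (e x) = 0) ∧
      ∀ k : Grp Q₀, k ∈ Cfsg.Omega F ⇑Q₀ → ∃ h : Grp Q, h ∈ Cfsg.Omega F ⇑Q ∧ ap h w = w ∧
        orderOf h = orderOf k ∧ ∀ i x, e (ap (k ^ i) x) = ap (h ^ i) (e x) := by
  set u : κ ⊕ Unit → F := Sum.elim 0 1 with hu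
  let J : (κ → F) →ₗ[F] (κ ⊕ Unit → F) :=
    { toFun := fun x => Sum.elim x 0
      map_add' := fun x y => by funext i; rcases i with i | i <;> simp
      map_smul' := fun c x => by funext i; rcases i with i | i <;> simp }
  have hJ : ∀ x, J x = Sum.elim x 0 := fun _ => rfl
  have hpol : ∀ y, B (Φ u) (Φ y) = l * (2 * y (Sum.inr ())) := fun y => by
    have h := polar_osum (Q₁ := Q₀) (Q₂ := lineForm (1 : F)) u y
    simp only [QuadraticMap.polar, ← map_add, hΦ] at h ⊢
    rw [← mul_sub, ← mul_sub, h, hu, Sum.elim_comp_inl, Sum.elim_comp_inr]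
    simp only [zero_add, QuadraticMap.map_zero, lineForm_apply, Pi.add_apply, Pi.one_apply, Function.comp_apply]
    ring
  have hinj : Function.Injective (Φ.toLinearMap ∘ₗ J) := fun x y e => by
    funext i
    exact congrFun (Φ.injective e) (Sum.inl i)
  have hQw : Q (Φ u) ≠ 0 := by
    rw [hΦ, osum_apply, hu, Sum.elim_comp_inl, Sum.elim_comp_inr, QuadraticMap.map_zero, zero_add, lineForm_apply]
    simpa using hl
  refine ⟨Φ u, ⟨hQw, l, hl, Φ.toLinearMap ∘ₗ J, hinj, ?_, fun x => ?_⟩, Φ.toLinearMap ∘ₗ J, hinj, fun x => ?_, fun k hk => ?_⟩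
  · refine le_antisymm ?_ fun z hz => ?_
    · rintro _ ⟨x, rfl⟩
      exact mem_orth_span_of (by rw [LinearMap.comp_apply, LinearEquiv.coe_coe, hpol, hJ]; simp)
    · obtain ⟨y, rfl⟩ := Φ.surjective z
      have h := b_eq_zero_of_orth_span hz
      rw [hpol] at h
      have hy : y (Sum.inr ()) = 0 := (mul_eq_zero.1 ((mul_eq_zero.1 h).resolve_left hl)).resolve_left h2
      refine ⟨y ∘ Sum.inl, congrArg Φ ?_⟩
      funext i
      rcases i with i | i
      · rfl
      · exact hy.symm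
  · rw [LinearMap.comp_apply, LinearEquiv.coe_coe, hΦ, hJ, osum_apply, Sum.elim_comp_inl, Sum.elim_comp_inr,
      QuadraticMap.map_zero, add_zero]
  · rw [LinearMap.comp_apply, LinearEquiv.coe_coe, hpol, hJ]; simp
  · obtain ⟨φ, hφ, hΩ, -⟩ := exists_transport hB Φ hl hΦ
    refine ⟨φ (blockHom Q₀ (lineForm 1) (k, 1)), (hΩ _).2 (blockHom_mem_omega _ _ hk (one_mem _)), ?_, ?_, fun i x => ?_⟩
    · rw [hφ, ap_blockHom_pair, hu, Sum.elim_comp_inl, Sum.elim_comp_inr, ap_zero, ap_one]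
    · rw [MulEquiv.orderOf_eq, orderOf_block, orderOf_one, Nat.lcm_one_right]
    · rw [← map_pow, ← map_pow, Prod.pow_mk, one_pow, LinearMap.comp_apply, LinearMap.comp_apply,
        LinearEquiv.coe_coe, hφ, ap_blockHom_pair, hJ, hJ, Sum.elim_comp_inl, Sum.elim_comp_inr, ap_one]

include p in
/-- A fixed vector and a non-zero sum give an element whose order is `p` times as large. -/
theorem exists_times_p (hB : Nondeg Q) (h2 : (2 : F) ≠ 0) (hodd : Odd (finrank F (ι → F)))
    (hn : 2 ≤ finrank F (ι → F)) {h : Grp Q} (hh : h ∈ Cfsg.Omega F ⇑Q) {w y : ι → F}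
    (hfix : ap h w = w) (hw : Q w ≠ 0) (hy : B w y = 0)
    (hsum : ∑ i ∈ Finset.range (orderOf h), ap (h ^ i) y ≠ 0) :
    ∃ g : Grp Q, g ∈ Cfsg.Omega F ⇑Q ∧ orderOf g = p * orderOf h := by
  have hp : p.Prime := Fact.out
  obtain ⟨hp3, hpodd⟩ := p_facts (p := p) h2
  obtain ⟨e, m, hm, hord⟩ := Nat.exists_eq_pow_mul_and_not_dvd (orderOf_pos h).ne' p hp.ne_one
  have hmc : m.Coprime p := ((hp.coprime_iff_not_dvd).2 hm).symm
  set s := h ^ p ^ e with hs
  have hso : orderOf s = m := by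
    rw [hs, orderOf_pow' _ (pow_ne_zero _ hp.ne_zero), hord, Nat.gcd_mul_right_left,
      Nat.mul_div_cancel_left _ (pow_pos hp.pos _)]
  have hsF : (orderOf s : F) ≠ 0 := by rw [hso]; exact cast_ne_zero (p := p) hmc
  set V := fixSpace s with hV
  have hnd : NondegOn Q V := nondegOn_fix hB hsF
  have hsΩ : s ∈ Cfsg.Omega F ⇑Q := pow_mem hh _
  have hwV : w ∈ V := mem_fixSpace.2 (ap_pow_fixed hfix _)
  set W := V ⊓ orth Q (Submodule.span F {w}) with hW
  have hTW : ∀ x ∈ W, (act Q h - 1) x ∈ W := fun x hx => W.sub_mem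
    ⟨fix_invariant ((Commute.refl h).pow_left _) hx.1, orth_invariant (fun z hz => by
      obtain ⟨c, rfl⟩ := Submodule.mem_span_singleton.1 hz
      rw [ap_smul]
      refine Submodule.smul_mem _ _ (Submodule.mem_span_singleton.2 ⟨1, ?_⟩)
      rw [one_smul]
      conv_rhs => rw [← hfix]
      exact (ap_inv_ap h w).symm) hx.2⟩ hx
  set z := ∑ a ∈ Finset.range m, ap (s ^ a) y with hz
  have hzW : z ∈ W := by
    refine ⟨mem_fixSpace.2 ?_, mem_orth_span_of ?_⟩
    · rw [hz, ap_sum, ← hso]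
      have h1 := Finset.sum_range_succ' (fun i => ap (s ^ i) y) (orderOf s)
      rw [Finset.sum_range_succ, pow_orderOf_eq_one, pow_zero] at h1
      have e1 : ∀ i, ap s (ap (s ^ i) y) = ap (s ^ (i + 1)) y := fun i => by rw [pow_succ', ap_mul]
      simp only [e1]
      exact (add_right_cancel h1).symm
    · rw [hz, ← QuadraticMap.polarBilin_apply_apply, map_sum]
      refine Finset.sum_eq_zero fun a _ => ?_
      rw [QuadraticMap.polarBilin_apply_apply]
      conv_lhs => rw [← ap_pow_fixed (mem_fixSpace.1 hwV) a]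
      rw [ap_b, hy]
  have hne : ((act Q h - 1) ^ (p ^ e - 1)) z ≠ 0 := by
    intro e0
    refine hsum ?_
    simp_rw [ap_pow_eq]
    rw [← LinearMap.sum_apply, hord, mul_comm, geom_split, Module.End.mul_apply, geom_sum_char F, LinearMap.sum_apply]
    refine (congrArg _ (Finset.sum_congr rfl fun a _ => ?_)).trans e0
    rw [← map_pow, ← map_pow]
    rfl
  have hlt := lt_finrank (act Q h - 1) W hTW (J := p ^ e) (fun x hx => by
    rw [sub_one_pow_char F, ← map_pow, LinearMap.sub_apply, Module.End.one_apply, act_apply, mem_fixSpace.1 hx.1,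
      sub_self]) hzW hne
  have hbw : B w w ≠ 0 := by rw [b_self]; exact mul_ne_zero h2 hw
  have hWV : finrank F W < finrank F V := finrank_perp_lt hwV hbw
  have hVodd : Odd (finrank F V) := by
    have h' := dickson_of_omega hB hsΩ
    rw [Nat.even_add'] at h'
    exact h'.1 hodd
  obtain ⟨c, hc⟩ := hpodd.pow (n := e)
  obtain ⟨d, hd⟩ := hVodd
  have hle : 2 * (c + 1) + 1 ≤ finrank F V := by omega
  obtain ⟨U, hUfix, hzU, v, -, hvne⟩ := exists_unipotent_on hB h2 hnd hle
  have h9 : p ^ e + 2 ≤ p ^ (e + 1) := by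
    have := Nat.one_le_pow e p hp.pos
    rw [pow_succ]
    nlinarith
  have hpow : ∀ {i j : ℕ} {x : ι → F}, i ≤ j → ((act Q U - 1) ^ i) x = 0 → ((act Q U - 1) ^ j) x = 0 :=
    fun {i j x} hij h0 => by
      rw [← Nat.sub_add_cancel hij, pow_add, Module.End.mul_apply, h0, map_zero]
  have hUo : orderOf U = p ^ (e + 1) := orderOf_unipotent U (v := v)
    (fun e0 => hvne (hpow (by omega) e0)) fun x => hpow (by omega) (hzU x)
  have hcom : Commute s U := commute_of_fix hB hnd (fun x hx => mem_fixSpace.1 hx) hUfix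
  refine ⟨s * U, mul_mem hsΩ (mem_omega_of_odd_order hB h2 hn (hUo ▸ hpodd.pow)), ?_⟩
  rw [hcom.orderOf_mul_eq_mul_orderOf_of_coprime (by rw [hso, hUo]; exact hmc.pow_right _), hso, hUo, hord]
  ring

end CfsgLib.Spectrum.OmegaNine
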