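import Cfsg.Agent.Lib.Spectrum.OmegaNine.Basic
import Cfsg.Agent.Lib.OddOrtho.Count
import Cfsg.Agent.Lib.PrimeGraphClassical.Sp
import Cfsg.Agent.Lib.Classical.OrthModels

/-!
Cyclic tori of `O^±(2n,q)` of order `q^n ∓ 1`: fixed-point-free, outside `Ω`.
-/

set_option autoImplicit false
set_option linter.unusedSectionVars false

namespace CfsgLib.Spectrum.OmegaNine

open Module CfsgLib.Orth CfsgLib.Classical.OrthModels

section count

theorem coprime_mul_eq {a b c d Q : ℕ} (ha : a.Coprime Q) (hd : d ∣ Q) (h : a * c = b * d) : a ∣ b :=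
  (ha.coprime_dvd_right hd).dvd_of_dvd_mul_right (h ▸ dvd_mul_right a c)

theorem orderOf_eq_of_free {M : Type*} [Monoid M] {a : M} {N : ℕ} (hN : 0 < N) (h : a ^ N = 1)
    (hf : ∀ k, 0 < k → k < N → a ^ k ≠ 1) : orderOf a = N :=
  (orderOf_eq_iff hN).2 ⟨h, fun m hm hm0 => hf m hm0 hm⟩

end count

variable {F : Type*} [Field F] [Fintype F]

theorem even_card_pow (hq : Odd (Fintype.card F)) (n : ℕ) :
    Even (Fintype.card F ^ n - 1) ∧ Even (Fintype.card F ^ n + 1) := by
  obtain ⟨c, hc⟩ := hq.pow (n := n)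
  rw [hc]
  exact ⟨⟨c, by omega⟩, ⟨c + 1, by omega⟩⟩

/-- An isometry of order `N` free on a space in which the number of unit vectors is an odd multiple of `N`. -/
theorem gen_of_model {V : Type*} [AddCommGroup V] [Module F V] [FiniteDimensional F V] {Qv : QuadraticForm F V}
    {ι : Type} [Fintype ι] [DecidableEq ι] {Q : QuadraticForm F (ι → F)} (hB : Nondeg Q)
    (hI : Iso ⇑Qv ⇑Q) (hev : Even (finrank F (ι → F))) (hpos : 0 < finrank F (ι → F))
    {N S : ℕ} (hN : Even N) (hN0 : 0 < N) (hS : Odd S)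
    (Λ : Module.End F V) (hiso : ∀ v, Qv (Λ v) = Qv v) (hΛ : Λ ^ N = 1)
    (hfree : ∀ k, 0 < k → k < N → ∀ v, (Λ ^ k) v = v → v = 0)
    (hX : Nat.card {v : V // Qv v = 1} = N * S) :
    ∃ g : Grp Q, orderOf g = N ∧ dickson hB g = 1 ∧ spinor Q 1 g = -1 := by
  classical
  obtain ⟨e, he⟩ := hI
  obtain ⟨g, hg⟩ := exists_iso hB (e.toLinearMap ∘ₗ Λ ∘ₗ e.symm.toLinearMap) fun x => by
    show Q (e (Λ (e.symm x))) = Q x
    rw [he, hiso, ← he, e.apply_symm_apply]
  have hgk : ∀ k x, ap (g ^ k) x = e ((Λ ^ k) (e.symm x)) := fun k => by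
    induction k with
    | zero => intro x; simp
    | succ k ih =>
      intro x
      rw [pow_succ, ap_mul, hg, ih, pow_succ]
      simp
  have hgN : g ^ N = 1 := ext_ap fun x => by rw [hgk, hΛ]; simp
  have hne : ∀ k, 0 < k → k < N → ∀ x, ap (g ^ k) x = x → x = 0 := fun k h1 h2 x hx => by
    rw [hgk, ← e.eq_symm_apply] at hx
    exact e.symm.map_eq_zero_iff.1 (hfree k h1 h2 _ hx)
  have : Nontrivial (ι → F) := Module.finrank_pos_iff.1 hpos
  obtain ⟨x0, hx0⟩ := exists_ne (0 : ι → F)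
  have hord : orderOf g = N := orderOf_eq_of_free hN0 hgN fun k h1 h2 h =>
    hx0 (hne k h1 h2 x0 (by rw [h, ap_one]))
  have h2N : 2 ≤ N := by obtain ⟨c, rfl⟩ := hN; omega
  refine ⟨g, hord, ?_, ?_⟩
  · have hfix : fixSpace g = ⊥ := (Submodule.eq_bot_iff _).2 fun x hx =>
      hne 1 one_pos (by omega) x (by rw [pow_one]; exact mem_fixSpace.1 hx)
    show (-1 : ℤˣ) ^ (_ + _) = 1
    rw [hfix, finrank_bot, add_zero, hev.neg_one_pow]
  · unfold spinor
    simp only [MonoidHom.comp_apply]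
    letI := Fintype.ofFinite {x : ι → F // Q x = 1}
    letI := Classical.decEq {x : ι → F // Q x = 1}
    set σ := normPerm (Q := Q) (1 : F) g with hσ
    have hσk : ∀ (k : ℕ) x, (((σ ^ k) x : {x : ι → F // Q x = 1}) : ι → F) = ap (g ^ k) x.1 := fun k x => by
      rw [hσ, ← map_pow]; rfl
    have hmove : ∀ x k, 0 < k → k < N → (σ ^ k) x ≠ x := fun x k h1 h2 h => by
      have h' := congrArg Subtype.val h
      rw [hσk] at h'
      have hx := hne k h1 h2 _ h'
      have := x.2
      rw [hx, QuadraticMap.map_zero] at this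
      exact zero_ne_one this
    obtain ⟨hsign, hcard⟩ := OddOrtho.sign_of_semiregular σ N hN hN0
      (by rw [hσ, ← map_pow, hgN, map_one]) fun x _ => hmove x
    have hsupp : σ.support = Finset.univ := Finset.eq_univ_iff_forall.2 fun x => by
      rw [Equiv.Perm.mem_support]
      simpa using hmove x 1 one_pos (by omega)
    have hc : σ.support.card = N * S := by
      rw [hsupp, Finset.card_univ, ← Nat.card_eq_fintype_card, ← hX]
      exact (Nat.card_congr (Equiv.subtypeEquiv e.toEquiv fun v => by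
        show _ ↔ Q (e v) = 1
        rw [he])).symm
    rw [hc, Nat.mul_div_cancel_left _ hN0, hS.neg_one_pow] at hsign
    convert hsign

section field

variable (L : Type) [Field L] [Finite L] [Algebra F L]

theorem exists_trace_eq (a : F) : ∃ w : L, Algebra.trace F L w = a := by
  obtain ⟨w, hw⟩ : ∃ w : L, Algebra.trace F L w ≠ 0 := by
    by_contra h
    push Not at h
    exact Algebra.trace_ne_zero F L (LinearMap.ext h)
  exact ⟨(a / Algebra.trace F L w) • w, by rw [map_smul, smul_eq_mul, div_mul_cancel₀ _ hw]⟩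

theorem card_slice_dvd (W : Submodule F L) (h : ∃ w ∈ W, Algebra.trace F L w = 1) :
    Nat.card {k : L // k ∈ W ∧ Algebra.trace F L k = 1} ∣ Nat.card L := by
  obtain ⟨w, hw, hw1⟩ := h
  have e : {k : L // k ∈ W ∧ Algebra.trace F L k = 1} ≃ ↥(W ⊓ LinearMap.ker (Algebra.trace F L)) :=
    { toFun := fun k => ⟨k.1 - w, W.sub_mem k.2.1 hw, by
        simp [map_sub, k.2.2, hw1]⟩
      invFun := fun k => ⟨k.1 + w, W.add_mem k.2.1 hw, by
        have := LinearMap.mem_ker.1 k.2.2
        rw [map_add, this, hw1, zero_add]⟩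
      left_inv := fun k => Subtype.ext (sub_add_cancel _ _)
      right_inv := fun k => Subtype.ext (add_sub_cancel_right _ _) }
  rw [Nat.card_congr e]
  exact AddSubgroup.card_addSubgroup_dvd_card (W ⊓ LinearMap.ker (Algebra.trace F L)).toAddSubgroup

/-- The split model `t(xy)`. -/
noncomputable def plusModel : QuadraticForm F (L × L) :=
  LinearMap.BilinMap.toQuadraticMap
    (((LinearMap.mul F L).compr₂ (Algebra.trace F L)).compl₁₂ (LinearMap.fst F L L) (LinearMap.snd F L L))

theorem plusModel_apply (v : L × L) : plusModel (F := F) L v = Algebra.trace F L (v.1 * v.2) := rfl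

theorem plusModel_nondeg : (QuadraticMap.polarBilin (plusModel (F := F) L)).Nondegenerate := by
  have hp : ∀ u v : L × L, QuadraticMap.polar ⇑(plusModel (F := F) L) u v =
      Algebra.trace F L (u.1 * v.2) + Algebra.trace F L (v.1 * u.2) := fun u v => by
    simp only [QuadraticMap.polar, plusModel_apply, Prod.fst_add, Prod.snd_add, mul_add, add_mul, map_add]
    ring
  have hl : ∀ u, (∀ v, QuadraticMap.polar ⇑(plusModel (F := F) L) u v = 0) → u = 0 := by
    intro u hu
    obtain ⟨w, hw⟩ := exists_trace_eq (F := F) L 1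
    refine Prod.ext ?_ ?_ <;> by_contra h
    · have := hu (0, u.1⁻¹ * w)
      rw [hp, ← mul_assoc, mul_inv_cancel₀ h, one_mul, hw, zero_mul, map_zero, add_zero] at this
      exact one_ne_zero this
    · have := hu (w * u.2⁻¹, 0)
      rw [hp, mul_assoc, inv_mul_cancel₀ h, mul_one, hw, mul_zero, map_zero, zero_add] at this
      exact one_ne_zero this
  exact ⟨hl, fun v hv => hl v fun u => by rw [QuadraticMap.polar_comm]; exact hv u⟩

theorem plusModel_card :
    Nat.card {v : L × L // plusModel (F := F) L v = 1} =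
      Nat.card Lˣ * Nat.card {k : L // k ∈ (⊤ : Submodule F L) ∧ Algebra.trace F L k = 1} := by
  rw [← Nat.card_prod]
  refine Nat.card_congr
    { toFun := fun v => (Units.mk0 v.1.1 fun e => ?_, ⟨v.1.1 * v.1.2, trivial, v.2⟩)
      invFun := fun w => ⟨((w.1 : L), ((w.1⁻¹ : Lˣ) : L) * w.2.1), ?_⟩
      left_inv := fun v => Subtype.ext ?_
      right_inv := fun w => ?_ }
  · have h := v.2
    rw [plusModel_apply, e, zero_mul, map_zero] at h
    exact zero_ne_one h
  · rw [plusModel_apply, ← mul_assoc, Units.mul_inv, one_mul, w.2.2.2]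
  · refine Prod.ext rfl ?_
    show _ * (v.1.1 * v.1.2) = _
    rw [← mul_assoc, Units.val_inv_eq_inv_val, Units.val_mk0, inv_mul_cancel₀, one_mul]
    intro e
    have h := v.2
    rw [plusModel_apply, e, zero_mul, map_zero] at h
    exact zero_ne_one h
  · refine Prod.ext (Units.ext rfl) (Subtype.ext ?_)
    show (w.1 : L) * (((w.1⁻¹ : Lˣ) : L) * w.2.1) = _
    rw [← mul_assoc, Units.mul_inv, one_mul]

theorem plusModel_iso {a b : F} (hab : ∀ z₁ z₂ : F, z₁ ^ 2 + a * z₁ * z₂ + b * z₂ ^ 2 = 0 → z₁ = 0 ∧ z₂ = 0)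
    {n : ℕ} (hd : finrank F L = n) : Iso ⇑(plusModel (F := F) L) (Cfsg.quadFormPlus n F) := by
  rcases classify_even (plusModel (F := F) L) (plusModel_nondeg L)
    (by rw [Module.finrank_prod, hd]; ring : finrank F (L × L) = 2 * n) a b hab with h | ⟨j, hj, e, he⟩
  · exact h
  exfalso
  obtain ⟨Qm, hQm, hQmn⟩ := exists_quadForm_minus j hab
  refine minus_no_half j hab hQm hQmn (LinearMap.range (e.toLinearMap ∘ₗ LinearMap.inl F L L)) ⟨?_, ?_⟩
  · rintro x ⟨y, rfl⟩
    rw [hQm]
    show Cfsg.quadFormMinus j F a b (e (y, 0)) = 0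
    rw [he, plusModel_apply, mul_zero, map_zero]
  · rw [LinearMap.finrank_range_of_inj (show Function.Injective (e.toLinearMap ∘ₗ LinearMap.inl F L L) from
      fun x y h => congrArg Prod.fst (e.injective h)), hd]
    simp [hj]
    ring

/-- The automorphism `x ↦ x ^ q ^ n`. -/
noncomputable def conjN (n : ℕ) : L ≃ₐ[F] L := (FiniteField.frobeniusAlgEquivOfAlgebraic F L) ^ n

theorem conjN_apply (n : ℕ) (x : L) : conjN (F := F) L n x = x ^ Fintype.card F ^ n := by
  rw [conjN, AlgEquiv.coe_pow, FiniteField.coe_frobeniusAlgEquivOfAlgebraic, pow_iterate]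

/-- The elliptic model `t(σ x · x)`. -/
noncomputable def minusModel (n : ℕ) : QuadraticForm F L :=
  LinearMap.BilinMap.toQuadraticMap
    (((LinearMap.mul F L).compr₂ (Algebra.trace F L)).comp (conjN (F := F) L n).toLinearMap)

theorem minusModel_apply (n : ℕ) (x : L) :
    minusModel (F := F) L n x = Algebra.trace F L (conjN (F := F) L n x * x) := rfl

variable {n : ℕ} (hL : Nat.card L = Fintype.card F ^ (2 * n))

include hL in
theorem conjN_conjN (x : L) : conjN (F := F) L n (conjN (F := F) L n x) = x := by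
  haveI := Fintype.ofFinite L
  rw [conjN_apply, conjN_apply, ← pow_mul, ← pow_add, ← two_mul, ← hL, Nat.card_eq_fintype_card,
    FiniteField.pow_card]

include hL in
theorem minusModel_nondeg (h2 : (2 : F) ≠ 0) :
    (QuadraticMap.polarBilin (minusModel (F := F) L n)).Nondegenerate := by
  have hp : ∀ u v : L, QuadraticMap.polar ⇑(minusModel (F := F) L n) u v =
      2 * Algebra.trace F L (conjN (F := F) L n u * v) := fun u v => by
    have e : Algebra.trace F L (conjN (F := F) L n v * u) = Algebra.trace F L (conjN (F := F) L n u * v) := by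
      rw [← Algebra.trace_eq_of_algEquiv (conjN (F := F) L n) (conjN (F := F) L n v * u), map_mul,
        conjN_conjN L hL, mul_comm]
    simp only [QuadraticMap.polar, minusModel_apply, map_add, mul_add, add_mul, e]
    ring
  have hl : ∀ u, (∀ v, QuadraticMap.polar ⇑(minusModel (F := F) L n) u v = 0) → u = 0 := by
    intro u hu
    by_contra h
    obtain ⟨w, hw⟩ := exists_trace_eq (F := F) L 1
    have h0 : conjN (F := F) L n u ≠ 0 := fun e => h ((map_eq_zero _).1 e)
    have := hu ((conjN (F := F) L n u)⁻¹ * w)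
    rw [hp, ← mul_assoc (conjN (F := F) L n u), mul_inv_cancel₀ h0, one_mul, hw, mul_one] at this
    exact h2 this
  exact ⟨hl, fun v hv => hl v fun u => by rw [QuadraticMap.polar_comm]; exact hv u⟩

include hL in
theorem exists_slice (h2 : (2 : F) ≠ 0) :
    ∃ w ∈ LinearMap.ker ((conjN (F := F) L n).toLinearMap - LinearMap.id), Algebra.trace F L w = 1 := by
  obtain ⟨w, hw⟩ := exists_trace_eq (F := F) L (1 / 2)
  refine ⟨w + conjN (F := F) L n w, ?_, ?_⟩
  · simp [conjN_conjN L hL, add_comm]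
  · rw [map_add, Algebra.trace_eq_of_algEquiv, hw]
    field_simp
    norm_num

include hL in
theorem minusModel_torus (hn : 1 ≤ n) (h2 : (2 : F) ≠ 0) :
    ∃ c : L, c ^ (Fintype.card F ^ n + 1) = 1 ∧ (∀ k, 0 < k → k < Fintype.card F ^ n + 1 → c ^ k ≠ 1) ∧
      Nat.card {x : L // minusModel (F := F) L n x = 1} = (Fintype.card F ^ n + 1) *
        Nat.card {k : L // k ∈ LinearMap.ker ((conjN (F := F) L n).toLinearMap - LinearMap.id) ∧
          Algebra.trace F L k = 1} := by
  set q := Fintype.card F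
  have hq : 2 ≤ q := Fintype.one_lt_card
  have hqn : 2 ≤ q ^ n := hq.trans (Nat.le_self_pow (by omega) q)
  set N := q ^ n + 1 with hNdef
  obtain ⟨g, hg⟩ := IsCyclic.exists_ofOrder_eq_natCard (α := Lˣ)
  have hcard : Nat.card Lˣ = N * (q ^ n - 1) := by
    rw [Nat.card_units, hL, hNdef, mul_comm 2, pow_mul, ← Nat.sq_sub_sq, one_pow]
  set r := g ^ (q ^ n - 1) with hr
  have hrN : orderOf r = N := by
    rw [hr, orderOf_pow' _ (by omega), hg, hcard, Nat.gcd_mul_left_left, Nat.mul_div_cancel _ (by omega)]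
  have hgen : ∀ y : Lˣ, ∃ j, g ^ j = y := fun y => by
    have h : y ∈ Subgroup.zpowers g := by
      rw [Subgroup.eq_top_of_card_eq (Subgroup.zpowers g) (by rw [Nat.card_zpowers, hg])]
      trivial
    exact (mem_powers_iff_mem_zpowers.2 h)
  have hnorm : ∀ x : L, conjN (F := F) L n x * x = x ^ N := fun x => by
    rw [conjN_apply, hNdef, pow_succ]
  have hsec : ∀ k : {k : L // k ∈ LinearMap.ker ((conjN (F := F) L n).toLinearMap - LinearMap.id) ∧
      Algebra.trace F L k = 1}, ∃ y : Lˣ, ((y ^ N : Lˣ) : L) = k.1 := by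
    rintro ⟨k, hk, hk1⟩
    have hk0 : k ≠ 0 := fun e => zero_ne_one (by rw [← hk1, e, map_zero])
    obtain ⟨j, hj⟩ := hgen (Units.mk0 k hk0)
    have h1 : (Units.mk0 k hk0) ^ (q ^ n - 1) = 1 := Units.ext (by
      have hk' : k ^ q ^ n = k := by
        have := LinearMap.mem_ker.1 hk
        simpa [sub_eq_zero, conjN_apply] using this
      rw [Units.val_pow_eq_pow_val, Units.val_mk0, Units.val_one]
      refine mul_right_cancel₀ hk0 ?_
      rw [← pow_succ, Nat.sub_add_cancel (by omega), hk', one_mul])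
    rw [← hj, ← pow_mul, ← orderOf_dvd_iff_pow_eq_one, hg, hcard] at h1
    obtain ⟨d, hd⟩ := Nat.dvd_of_mul_dvd_mul_right (by omega) h1
    exact ⟨g ^ d, by rw [← pow_mul, mul_comm d, ← hd, hj]; rfl⟩
  choose sec hsec using hsec
  have hr1 : r ^ N = 1 := hrN ▸ pow_orderOf_eq_one r
  refine ⟨(r : L), ?_, fun k h1 h2' e => ?_, ?_⟩
  · rw [← Units.val_pow_eq_pow_val, ← hrN, pow_orderOf_eq_one, Units.val_one]
  · exact pow_ne_one_of_lt_orderOf h1.ne' (hrN.symm ▸ h2') (Units.ext (by
      rw [Units.val_pow_eq_pow_val, e, Units.val_one]))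
  have hmk : ∀ (i : Fin N) (k : _), minusModel (F := F) L n ((r ^ (i : ℕ) * sec k : Lˣ) : L) = 1 := fun i k => by
    rw [minusModel_apply, hnorm, ← Units.val_pow_eq_pow_val, mul_pow, ← pow_mul, mul_comm (i : ℕ), pow_mul,
      hr1, one_pow, one_mul, hsec]
    exact k.2.2
  let f : Fin N × {k : L // k ∈ LinearMap.ker ((conjN (F := F) L n).toLinearMap - LinearMap.id) ∧
      Algebra.trace F L k = 1} → {x : L // minusModel (F := F) L n x = 1} :=
    fun w => ⟨((r ^ (w.1 : ℕ) * sec w.2 : Lˣ) : L), hmk w.1 w.2⟩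
  have hf : Function.Bijective f := by
    constructor
    · rintro ⟨i, k⟩ ⟨i', k'⟩ h
      have h' : r ^ (i : ℕ) * sec k = r ^ (i' : ℕ) * sec k' := Units.ext (congrArg Subtype.val h)
      have hk : k = k' := by
        have := congrArg (fun y : Lˣ => ((y ^ N : Lˣ) : L)) h'
        simp only [mul_pow, ← pow_mul, mul_comm _ N] at this
        rw [pow_mul, pow_mul, hr1, one_pow, one_pow, one_mul, one_mul, hsec, hsec] at this
        exact Subtype.ext this
      subst hk
      refine Prod.ext (Fin.ext ?_) rfl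
      exact pow_injOn_Iio_orderOf (by rw [hrN]; exact i.2) (by rw [hrN]; exact i'.2) (mul_right_cancel h')
    · rintro ⟨x, hx⟩
      have hx0 : x ≠ 0 := fun e => zero_ne_one (by rw [← hx, e, QuadraticMap.map_zero])
      set k : {k : L // k ∈ LinearMap.ker ((conjN (F := F) L n).toLinearMap - LinearMap.id) ∧
          Algebra.trace F L k = 1} := ⟨conjN (F := F) L n x * x, by
        simp [conjN_conjN L hL, mul_comm], hx⟩
      obtain ⟨j, hj⟩ := hgen (Units.mk0 x hx0 * (sec k)⁻¹)
      have h1 : (Units.mk0 x hx0 * (sec k)⁻¹) ^ N = 1 := by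
        rw [mul_pow, inv_pow, mul_inv_eq_one]
        exact Units.ext (by rw [hsec, Units.val_pow_eq_pow_val, Units.val_mk0, ← hnorm])
      rw [← hj, ← pow_mul, ← orderOf_dvd_iff_pow_eq_one, hg, hcard, mul_comm j] at h1
      obtain ⟨d, hd⟩ := Nat.dvd_of_mul_dvd_mul_left (by omega) h1
      refine ⟨(⟨d % N, Nat.mod_lt _ (by omega)⟩, k), Subtype.ext ?_⟩
      show ((r ^ (d % N) * sec k : Lˣ) : L) = x
      have e : r ^ (d % N) = r ^ d := by rw [← hrN, pow_mod_orderOf]
      rw [e, hr, ← pow_mul, ← hd, hj, inv_mul_cancel_right, Units.val_mk0]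
  rw [← Nat.card_congr (Equiv.ofBijective f hf), Nat.card_prod, Nat.card_fin]

end field

variable {p : ℕ} [Fact p.Prime] [CharP F p]

include p in
theorem coprime_pow_add (n e : ℕ) (hn : n ≠ 0) :
    (Fintype.card F ^ n + 1).Coprime (Fintype.card F ^ e) ∧ (Fintype.card F ^ n - 1).Coprime (Fintype.card F ^ e) := by
  obtain ⟨k, hp, hk⟩ := FiniteField.card F p
  rw [hk, ← pow_mul, ← pow_mul]
  have h2 : ∀ m, p ∣ p ^ ((k : ℕ) * n) → ¬ (p ∣ m ∧ (m = p ^ ((k : ℕ) * n) + 1 ∨ m + 1 = p ^ ((k : ℕ) * n))) := by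
    rintro m hd ⟨hm, h | h⟩
    · rw [h] at hm
      exact hp.not_dvd_one ((Nat.dvd_add_right hd).1 hm)
    · rw [← h] at hd
      exact hp.not_dvd_one ((Nat.dvd_add_right hm).1 hd)
  have hdk : p ∣ p ^ ((k : ℕ) * n) := dvd_pow_self p (Nat.mul_ne_zero k.ne_zero hn)
  constructor <;> refine Nat.Coprime.pow_right _ (Nat.Coprime.symm (hp.coprime_iff_not_dvd.2 fun hd => ?_))
  · exact h2 _ hdk ⟨hd, Or.inl rfl⟩
  · exact h2 _ hdk ⟨hd, Or.inr (Nat.sub_add_cancel (Nat.one_le_pow _ _ hp.pos))⟩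

include p in
/-- The split torus. -/
theorem gen_plus (hq : Odd (Fintype.card F)) {a b : F}
    (hab : ∀ z₁ z₂ : F, z₁ ^ 2 + a * z₁ * z₂ + b * z₂ ^ 2 = 0 → z₁ = 0 ∧ z₂ = 0)
    {n : ℕ} (hn : 1 ≤ n) {Q : QuadraticForm F (Fin n ⊕ Fin n → F)} (hQ : ⇑Q = Cfsg.quadFormPlus n F) (hB : Nondeg Q) :
    ∃ g : Grp Q, orderOf g = Fintype.card F ^ n - 1 ∧ dickson hB g = 1 ∧ spinor Q 1 g = -1 := by
  obtain ⟨L, _, _, _, hd, hc⟩ := PrimeGraphClassical.exists_field (F := F) p n hn
  set N := Fintype.card F ^ n - 1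
  obtain ⟨g, hg⟩ := IsCyclic.exists_ofOrder_eq_natCard (α := Lˣ)
  have hgN : orderOf g = N := by rw [hg, Nat.card_units, hc]
  have h2n : 1 < Fintype.card F ^ n := Nat.one_lt_pow (by omega) Fintype.one_lt_card
  let Λ : Module.End F (L × L) := (LinearMap.mulLeft F (g : L)).prodMap (LinearMap.mulLeft F ((g⁻¹ : Lˣ) : L))
  have hΛ : ∀ k v, (Λ ^ k) v = ((g : L) ^ k * v.1, ((g⁻¹ : Lˣ) : L) ^ k * v.2) := fun k => by
    induction k with
    | zero => intro v; simp
    | succ k ih => intro v; rw [pow_succ, Module.End.mul_apply, ih]; simp [Λ, pow_succ, mul_assoc]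
  refine gen_of_model hB (hQ ▸ plusModel_iso L hab hd) (by simp) (by simp; omega)
    (even_card_pow hq n).1 (by omega) ?_ Λ (fun v => ?_) ?_ (fun k h1 h2 v hv => ?_)
    (by rw [plusModel_card, Nat.card_units, hc])
  · exact (Odd.of_dvd_nat (hc ▸ hq.pow) (card_slice_dvd L ⊤
      (let ⟨w, hw⟩ := exists_trace_eq (F := F) L 1; ⟨w, trivial, hw⟩)))
  · show Algebra.trace F L ((g : L) * v.1 * (((g⁻¹ : Lˣ) : L) * v.2)) = Algebra.trace F L (v.1 * v.2)
    rw [mul_mul_mul_comm, Units.mul_inv, one_mul]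
  · refine LinearMap.ext fun v => ?_
    rw [hΛ, ← Units.val_pow_eq_pow_val, ← Units.val_pow_eq_pow_val, inv_pow, ← hgN, pow_orderOf_eq_one]
    simp
  · rw [hΛ] at hv
    have hne : g ^ k ≠ 1 := pow_ne_one_of_lt_orderOf h1.ne' (hgN.symm ▸ h2)
    have key : ∀ (u : Lˣ) (x : L), u ≠ 1 → (u : L) * x = x → x = 0 := fun u x hu hx => by
      by_contra h
      exact hu (Units.ext (mul_right_cancel₀ h (by rw [hx, Units.val_one, one_mul])))
    refine Prod.ext (key (g ^ k) _ hne ?_) (key (g⁻¹ ^ k) _ (by rw [inv_pow]; exact inv_ne_one.2 hne) ?_)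
    · rw [Units.val_pow_eq_pow_val]; exact congrArg Prod.fst hv
    · rw [Units.val_pow_eq_pow_val]; exact congrArg Prod.snd hv

include p in
/-- The elliptic torus. -/
theorem gen_minus (hq : Odd (Fintype.card F)) {a b : F}
    (hab : ∀ z₁ z₂ : F, z₁ ^ 2 + a * z₁ * z₂ + b * z₂ ^ 2 = 0 → z₁ = 0 ∧ z₂ = 0)
    {j : ℕ} {Q : QuadraticForm F ((Fin j ⊕ Fin j) ⊕ Fin 2 → F)} (hQ : ⇑Q = Cfsg.quadFormMinus j F a b) (hB : Nondeg Q) :
    ∃ g : Grp Q, orderOf g = Fintype.card F ^ (j + 1) + 1 ∧ dickson hB g = 1 ∧ spinor Q 1 g = -1 := by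
  have h2 : (2 : F) ≠ 0 := fun e => by
    have h := FiniteField.cast_card_eq_zero F
    obtain ⟨c, hc⟩ := hq
    rw [hc, Nat.cast_add, Nat.cast_mul, Nat.cast_ofNat, e, zero_mul, zero_add, Nat.cast_one] at h
    exact one_ne_zero h
  obtain ⟨L, _, _, _, hd, hc⟩ := PrimeGraphClassical.exists_field (F := F) p (2 * (j + 1)) (by omega)
  obtain ⟨c, hcN, hfree, hcard⟩ := minusModel_torus (F := F) L hc (by omega : 1 ≤ j + 1) h2
  have hS : _ ∣ Fintype.card F ^ (2 * (j + 1)) := hc ▸ card_slice_dvd L _ (exists_slice L hc h2)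
  have hI : Iso ⇑(minusModel (F := F) L (j + 1)) (Cfsg.quadFormMinus j F a b) := by
    rcases classify_even (minusModel (F := F) L (j + 1)) (minusModel_nondeg L hc h2) hd a b hab with ⟨e, he⟩ | ⟨j', hj', h⟩
    · exfalso
      obtain ⟨L', _, _, _, hd', hc'⟩ := PrimeGraphClassical.exists_field (F := F) p (j + 1) (by omega)
      obtain ⟨e', he'⟩ := plusModel_iso L' hab hd'
      have hcard' := plusModel_card (F := F) L'
      rw [Nat.card_units, hc', ← Nat.card_congr (Equiv.subtypeEquiv (e.trans e'.symm).toEquiv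
        (q := fun v => plusModel (F := F) L' v = 1) fun x => by
          show _ ↔ plusModel (F := F) L' (e'.symm (e x)) = 1
          rw [← he', e'.apply_symm_apply, he]), hcard] at hcard'
      have hd2 := coprime_mul_eq (coprime_pow_add (p := p) (F := F) (j + 1) (j + 1) (by omega)).1
        (hc' ▸ card_slice_dvd L' ⊤ (let ⟨w, hw⟩ := exists_trace_eq (F := F) L' 1; ⟨w, trivial, hw⟩)) hcard'
      have h1 : 1 < Fintype.card F ^ (j + 1) := Nat.one_lt_pow (by omega) Fintype.one_lt_card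
      have := Nat.le_of_dvd (by omega) hd2
      omega
    · obtain rfl : j' = j := by omega
      exact h
  let Λ : Module.End F L := LinearMap.mulLeft F c
  have hΛ : ∀ k x, (Λ ^ k) x = c ^ k * x := fun k => by
    induction k with
    | zero => intro x; simp
    | succ k ih => intro x; rw [pow_succ, Module.End.mul_apply, ih]; simp [Λ, pow_succ, mul_assoc]
  refine gen_of_model hB (hQ ▸ hI) ⟨j + 1, by simp; ring⟩ (by simp) (even_card_pow hq _).2 (by omega)
    (Odd.of_dvd_nat hq.pow hS) Λ (fun x => ?_) (LinearMap.ext fun x => by rw [hΛ, hcN]; simp)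
    (fun k h1 h2 x hx => ?_) hcard
  · show Algebra.trace F L (conjN (F := F) L (j + 1) (c * x) * (c * x)) = _
    rw [minusModel_apply, map_mul (conjN (F := F) L (j + 1)), mul_mul_mul_comm, conjN_apply L (j + 1) c, ← pow_succ, hcN, one_mul]
  · rw [hΛ] at hx
    by_contra h
    exact hfree k h1 h2 (mul_right_cancel₀ h (by rw [hx, one_mul]))

end CfsgLib.Spectrum.OmegaNine
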