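import Cfsg.Agent.Lib.PrimeGraphOdd.Poly

/-!
Irreducible factors of self-reciprocal polynomials of degree at most eight.
-/

set_option autoImplicit false
set_option linter.unusedSectionVars false

namespace CfsgLib.Spectrum.OmegaNine

open Polynomial CfsgLib.Classical CfsgLib.Classical.UnitaryTwistPoly CfsgLib.PrimeGraphOdd

variable {F : Type*} [Field F] [Fintype F]

local notation "τ" => tw (RingHom.id F)
local notation "q" => Fintype.card F

/-- The degree of a self-reciprocal irreducible polynomial is even, and its roots are killed by `q ^ b + 1`. -/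
theorem self_factor {P : F[X]} (hP : Irreducible P) (hm : P.Monic) (h0 : P.coeff 0 ≠ 0) (ht : τ P = P)
    (h1 : P ≠ X - C 1) (hn1 : P ≠ X - C (-1)) :
    ∃ b, 1 ≤ b ∧ P.natDegree = 2 * b ∧ P ∣ X ^ (q ^ b + 1) - 1 := by
  haveI := Fact.mk hP
  haveI : Module.Finite F (AdjoinRoot P) := hm.finite_adjoinRoot
  haveI : Finite (AdjoinRoot P) := Module.finite_of_finite F
  set r := AdjoinRoot.root P
  have hr0 : r ≠ 0 := fun e => h0 (by
    have := AdjoinRoot.eval₂_root P
    rw [show AdjoinRoot.root P = 0 from e, eval₂_at_zero] at this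
    exact (_root_.map_eq_zero _).1 this)
  have hinv : aeval r⁻¹ P = 0 := by
    haveI := invertibleOfNonzero (inv_ne_zero hr0)
    have htw : τ P = C (P.coeff 0)⁻¹ * P.reverse := by simp [tw]
    have h : aeval r (C (P.coeff 0)⁻¹ * P.reverse) = 0 := by
      rw [← htw, ht]; exact aeval_root_of_dvd (dvd_refl P)
    rw [map_mul, aeval_C, mul_eq_zero] at h
    have hrev := h.resolve_left ((_root_.map_ne_zero _).2 (inv_ne_zero h0))
    rw [aeval_def] at hrev ⊢
    refine (eval₂_reverse_eq_zero_iff (algebraMap F (AdjoinRoot P)) r⁻¹ P).1 ?_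
    rwa [invOf_eq_inv, inv_inv]
  have hne : r * r ≠ 1 := fun e => by
    rcases mul_self_eq_one_iff.1 e with e' | e'
    · refine h1 (eq_of_monic_of_associated hm (monic_X_sub_C 1)
        (hP.associated_of_dvd (irreducible_X_sub_C 1) (dvd_of_aeval_root ?_)))
      rw [map_sub, aeval_X, aeval_C, map_one, show AdjoinRoot.root P = 1 from e', sub_self]
    · refine hn1 (eq_of_monic_of_associated hm (monic_X_sub_C (-1))
        (hP.associated_of_dvd (irreducible_X_sub_C (-1)) (dvd_of_aeval_root ?_)))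
      rw [map_sub, aeval_X, aeval_C, map_neg, map_one, show AdjoinRoot.root P = -1 from e', sub_self]
  let φ : AdjoinRoot P →ₐ[F] AdjoinRoot P := AdjoinRoot.liftAlgHom P (Algebra.ofId F _) r⁻¹ hinv
  have hφ : φ r = r⁻¹ := AdjoinRoot.liftAlgHom_root P (Algebra.ofId F _) r⁻¹ hinv
  have hfr : Module.finrank F (AdjoinRoot P) = P.natDegree := by
    rw [(AdjoinRoot.powerBasis hP.ne_zero).finrank, AdjoinRoot.powerBasis_dim]
  obtain ⟨i, hi⟩ := (FiniteField.bijective_frobeniusAlgHom_pow F (AdjoinRoot P)).2 φ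
  have hi' : φ = FiniteField.frobeniusAlgHom F (AdjoinRoot P) ^ (i : ℕ) := hi.symm
  have hi0 : 0 < (i : ℕ) := by
    by_contra h
    rw [Nat.eq_zero_of_not_pos h, pow_zero] at hi'
    rw [hi', AlgHom.one_apply] at hφ
    refine hne ?_
    nth_rw 2 [hφ]
    exact mul_inv_cancel₀ hr0
  have hsq : FiniteField.frobeniusAlgHom F (AdjoinRoot P) ^ (2 * (i : ℕ)) = 1 := by
    rw [two_mul, pow_add, ← hi']
    refine AdjoinRoot.algHom_ext ?_
    rw [AlgHom.mul_apply, AlgHom.one_apply, hφ, map_inv₀, hφ, inv_inv]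
  have hd := orderOf_dvd_of_pow_eq_one hsq
  have ho := FiniteField.orderOf_frobeniusAlgHom F (AdjoinRoot P)
  rw [hfr] at ho
  rw [ho] at hd
  have hilt : (i : ℕ) < P.natDegree := hfr ▸ i.2
  obtain ⟨c, hc⟩ := hd
  have hc1 : c = 1 := by
    rcases c with _ | _ | c
    · omega
    · rfl
    · exfalso
      have : P.natDegree * 2 ≤ P.natDegree * (c + 1 + 1) := Nat.mul_le_mul_left _ (by omega)
      omega
  rw [hc1, mul_one] at hc
  refine ⟨i, hi0, hc.symm, dvd_of_aeval_root ?_⟩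
  rw [hi', AlgHom.coe_pow, FiniteField.coe_frobeniusAlgHom, pow_iterate] at hφ
  dsimp only at hφ
  rw [map_sub, map_pow, aeval_X, map_one, pow_succ, show AdjoinRoot.root P = r from rfl, hφ,
    inv_mul_cancel₀ hr0, sub_self]

theorem factor_dvd {P : F[X]} (hP : Irreducible P) (hm : P.Monic) (h0 : P.coeff 0 ≠ 0) :
    P ∣ X ^ (q ^ P.natDegree - 1) - 1 := by
  haveI := Fact.mk hP
  haveI : Module.Finite F (AdjoinRoot P) := hm.finite_adjoinRoot
  haveI : Finite (AdjoinRoot P) := Module.finite_of_finite F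
  haveI := Fintype.ofFinite (AdjoinRoot P)
  refine dvd_of_aeval_root ?_
  have hr0 : AdjoinRoot.root P ≠ 0 := fun e => h0 (by
    have := AdjoinRoot.eval₂_root P
    rw [e, eval₂_at_zero] at this
    exact (_root_.map_eq_zero _).1 this)
  have h := FiniteField.pow_card_sub_one_eq_one (AdjoinRoot.root P) hr0
  rw [Module.card_eq_pow_finrank (K := F), (AdjoinRoot.powerBasis hP.ne_zero).finrank,
    AdjoinRoot.powerBasis_dim] at h
  rw [map_sub, map_pow, aeval_X, map_one, h, sub_self]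

theorem dvd_X_pow_trans {P : F[X]} {a b : ℕ} (h : P ∣ X ^ a - 1) (hab : a ∣ b) : P ∣ X ^ b - 1 := by
  obtain ⟨c, rfl⟩ := hab
  refine h.trans ?_
  rw [pow_mul]
  simpa using sub_dvd_pow_sub_pow (X ^ a : F[X]) 1 c

theorem tw_pow' {P : F[X]} : ∀ c : ℕ, τ (P ^ c) = τ P ^ c := by
  intro c
  induction c with
  | zero => rw [pow_zero, pow_zero, SympPrimeOrder.tw_one]
  | succ c ih => rw [pow_succ, pow_succ, tw_mul, ih]

theorem tw_X_add_one : τ (X - C (-1) : F[X]) = X - C (-1) := by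
  rw [tw]
  have h : (X - C (-1) : F[X]).natDegree = 1 := natDegree_X_sub_C _
  refine Polynomial.ext fun n => ?_
  simp only [Polynomial.map_id, RingHom.id_apply, coeff_C_mul, coeff_reverse, h]
  rcases n with _ | _ | n
  · rw [revAt_le (by omega : 0 ≤ 1)]; simp [coeff_X, coeff_C, coeff_one]
  · rw [revAt_le (by omega : 0 + 1 ≤ 1)]; simp [coeff_X, coeff_C, coeff_one]
  · rw [revAt_eq_self_of_lt (by omega : 1 < n + 1 + 1)]; simp [coeff_X, coeff_C]

/-- A self-reciprocal monic polynomial with non-zero constant term. -/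
structure SelfRec (R : F[X]) : Prop where
  monic : R.Monic
  fixed : τ R = R
  const : R.coeff 0 ≠ 0

theorem SelfRec.of_mul {A R : F[X]} (h : SelfRec (A * R)) (hA : SelfRec A) : SelfRec R where
  monic := hA.monic.of_mul_monic_left h.monic
  fixed := tw_cancel hA.monic.ne_zero hA.fixed h.fixed
  const e := h.const (by rw [mul_coeff_zero, e, mul_zero])

theorem SelfRec.pow {A : F[X]} (h : SelfRec A) (c : ℕ) : SelfRec (A ^ c) where
  monic := h.monic.pow c
  fixed := by rw [tw_pow', h.fixed]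
  const := by rw [coeff_zero_eq_eval_zero, eval_pow, ← coeff_zero_eq_eval_zero]; exact pow_ne_zero _ h.const

theorem selfRec_X_add_one : SelfRec (X - C (-1) : F[X]) :=
  ⟨monic_X_sub_C _, tw_X_add_one, by simp⟩

/-- The self-reciprocal polynomial belonging to a factor. -/
theorem exists_block {R P : F[X]} (hR : SelfRec R) (hP : Irreducible P) (hm : P.Monic) {c : ℕ} (hd : P ^ c ∣ R) :
    (τ P = P ∧ SelfRec (P ^ c)) ∨
      (τ P ≠ P ∧ SelfRec ((P * τ P) ^ c) ∧ (P * τ P) ^ c ∣ R ∧ ((P * τ P) ^ c).natDegree = 2 * (c * P.natDegree)) := by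
  rcases Nat.eq_zero_or_pos c with rfl | hc
  · by_cases ht : τ P = P
    · exact Or.inl ⟨ht, by rw [pow_zero]; exact ⟨monic_one, SympPrimeOrder.tw_one, by simp⟩⟩
    · exact Or.inr ⟨ht, by rw [pow_zero]; exact ⟨monic_one, SympPrimeOrder.tw_one, by simp⟩, by simp, by simp⟩
  have hPR : P ∣ R := (dvd_pow_self P hc.ne').trans hd
  have h0 : P.coeff 0 ≠ 0 := coeff_zero_ne_of_dvd hPR hR.const
  by_cases ht : τ P = P
  · exact Or.inl ⟨ht, (SelfRec.mk hm ht h0).pow c⟩
  have hd' : τ P ^ c ∣ R := by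
    have := tw_dvd (RingHom.id F) hd
    rwa [hR.fixed, tw_pow'] at this
  have hi := irreducible_tw hP hm h0
  have hcop : IsCoprime P (τ P) := hP.coprime_iff_not_dvd.2 fun h =>
    ht (eq_of_monic_of_associated (monic_tw _ h0) hm (hP.associated_of_dvd hi h).symm)
  have hself : SelfRec (P * τ P) := ⟨hm.mul (monic_tw _ h0),
    by rw [tw_mul, tw_tw _ (fun _ => rfl) hm h0, mul_comm],
    by rw [mul_coeff_zero, coeff_zero_tw _ hm h0, RingHom.id_apply, mul_inv_cancel₀ h0]; exact one_ne_zero⟩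
  refine Or.inr ⟨ht, hself.pow c, by rw [mul_pow]; exact hcop.pow.mul_dvd hd hd', ?_⟩
  rw [natDegree_pow, hm.natDegree_mul (monic_tw _ h0), natDegree_tw _ h0]
  ring

theorem SelfRec.exists_cofactor {R A : F[X]} (hR : SelfRec R) (hA : SelfRec A) (hd : A ∣ R) :
    ∃ R', R = A * R' ∧ SelfRec R' ∧ R.natDegree = A.natDegree + R'.natDegree := by
  obtain ⟨R', rfl⟩ := hd
  exact ⟨R', rfl, hR.of_mul hA, hA.monic.natDegree_mul (hR.of_mul hA).monic⟩

theorem forall_factor {A : F[X]} {P₀ : F[X]} (hP₀ : Irreducible P₀) (hm : P₀.Monic) {c : ℕ} (hA : A ∣ P₀ ^ c)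
    {P : F[X]} (hP : Irreducible P) (hPm : P.Monic) (hd : P ∣ A) : P = P₀ :=
  eq_of_monic_of_associated hPm hm (hP.associated_of_dvd hP₀ (hP.prime.dvd_of_dvd_pow (hd.trans hA)))

/-- All irreducible factors divide `X ^ N - 1`. -/
def AllDvd (N : ℕ) (R : F[X]) : Prop := ∀ P : F[X], Irreducible P → P.Monic → P ∣ R → P ∣ X ^ N - 1

theorem AllDvd.mul {N : ℕ} {A R : F[X]} (h : AllDvd N A) (h' : AllDvd N R) : AllDvd N (A * R) :=
  fun P hP hm hd => (hP.prime.dvd_or_dvd hd).elim (h P hP hm) (h' P hP hm)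

theorem AllDvd.mono {N M : ℕ} {R : F[X]} (h : AllDvd N R) (hNM : N ∣ M) : AllDvd M R :=
  fun P hP hm hd => dvd_X_pow_trans (h P hP hm hd) hNM

theorem AllDvd.pow {N : ℕ} {R : F[X]} (h : AllDvd N R) (c : ℕ) : AllDvd N (R ^ c) :=
  fun P hP hm hd => h P hP hm (hP.prime.dvd_of_dvd_pow hd)

theorem allDvd_irreducible {P₀ : F[X]} (hP₀ : Irreducible P₀) (hm : P₀.Monic) {N : ℕ} (h : P₀ ∣ X ^ N - 1) :
    AllDvd N P₀ := fun P hP hPm hd => by
  rw [eq_of_monic_of_associated hPm hm (hP.associated_of_dvd hP₀ hd)]; exact h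

theorem allDvd_X_add_one {N : ℕ} (hN : Even N) : AllDvd N (X - C (-1) : F[X]) :=
  allDvd_irreducible (irreducible_X_sub_C _) (monic_X_sub_C _) (by
    rw [dvd_iff_isRoot, IsRoot, eval_sub, eval_pow, eval_X, eval_one, hN.neg_one_pow, sub_self])

theorem allDvd_pair {P : F[X]} (hP : Irreducible P) (hm : P.Monic) (h0 : P.coeff 0 ≠ 0) :
    AllDvd (q ^ P.natDegree - 1) (P * τ P) :=
  (allDvd_irreducible hP hm (factor_dvd hP hm h0)).mul
    (allDvd_irreducible (irreducible_tw hP hm h0) (monic_tw _ h0) (by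
      have := factor_dvd (irreducible_tw hP hm h0) (monic_tw _ h0) (by
        rw [coeff_zero_tw _ hm h0]; exact inv_ne_zero (by simpa using h0))
      rwa [natDegree_tw _ h0] at this))

/-- The possible factors. -/
theorem factor_cases {R P : F[X]} (hR : SelfRec R) (h1 : R.eval 1 ≠ 0) (hP : Irreducible P) (hm : P.Monic)
    (hd : P ∣ R) :
    (P = X - C (-1)) ∨
    (τ P = P ∧ P ≠ X - C (-1) ∧ SelfRec P ∧ ∃ b, 1 ≤ b ∧ P.natDegree = 2 * b ∧ P ∣ X ^ (q ^ b + 1) - 1) ∨
    (τ P ≠ P ∧ SelfRec (P * τ P) ∧ P * τ P ∣ R ∧ (P * τ P).natDegree = 2 * P.natDegree ∧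
      AllDvd (q ^ P.natDegree - 1) (P * τ P)) := by
  have h0 : P.coeff 0 ≠ 0 := coeff_zero_ne_of_dvd hd hR.const
  by_cases he : P = X - C (-1)
  · exact Or.inl he
  right
  rcases exists_block hR hP hm (c := 1) (by rwa [pow_one]) with ⟨ht, hs⟩ | ⟨ht, hs, hd', hdeg⟩
  · rw [pow_one] at hs
    refine Or.inl ⟨ht, he, hs, self_factor hP hm h0 ht (fun e => h1 ?_) he⟩
    rw [e, dvd_iff_isRoot] at hd
    exact hd
  · rw [pow_one] at hs hd' hdeg
    exact Or.inr ⟨ht, hs, hd', by omega, allDvd_pair hP hm h0⟩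

theorem small_two {R : F[X]} (hR : SelfRec R) (h1 : R.eval 1 ≠ 0) (hd : R.natDegree ≤ 2) (hq : Odd q) :
    AllDvd (q - 1) R ∨ AllDvd (q + 1) R := by
  obtain ⟨c, hc⟩ := hq
  by_cases hex : ∃ P : F[X], Irreducible P ∧ P.Monic ∧ P ∣ R ∧ τ P = P ∧ P ≠ X - C (-1)
  · obtain ⟨P, hP, hm, hPR, ht, hne⟩ := hex
    rcases factor_cases hR h1 hP hm hPR with h | ⟨-, -, -, b, hb, hdeg, hdvd⟩ | ⟨h, -⟩
    · exact absurd h hne
    · have := natDegree_le_of_dvd hPR hR.monic.ne_zero
      obtain rfl : b = 1 := by omega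
      rw [pow_one] at hdvd
      have hRP : R = P := (eq_of_monic_of_dvd_of_natDegree_le hm hR.monic hPR (by omega))
      exact Or.inr (hRP ▸ allDvd_irreducible hP hm hdvd)
    · exact absurd ht h
  · refine Or.inl fun P hP hm hPR => ?_
    rcases factor_cases hR h1 hP hm hPR with rfl | ⟨ht, hne, -⟩ | ⟨-, hs, hd', hdeg, hall⟩
    · exact allDvd_X_add_one (F := F) ⟨c, by omega⟩ _ hP hm dvd_rfl
    · exact absurd ⟨P, hP, hm, hPR, ht, hne⟩ hex
    · have := natDegree_le_of_dvd hd' hR.monic.ne_zero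
      have hP1 : P.natDegree = 1 := by have := hP.natDegree_pos; omega
      rw [hP1, pow_one] at hall
      exact hall P hP hm (dvd_mul_right _ _)

theorem sq_facts : q + 1 ∣ q ^ 2 - 1 ∧ q - 1 ∣ q ^ 2 - 1 := by
  have e : q ^ 2 - 1 = (q + 1) * (q - 1) := by rw [← Nat.sq_sub_sq, one_pow]
  exact ⟨⟨_, e⟩, ⟨q + 1, by rw [e, mul_comm]⟩⟩

theorem small_four {R : F[X]} (hR : SelfRec R) (h1 : R.eval 1 ≠ 0) (hd : R.natDegree ≤ 4) (hq : Odd q) :
    AllDvd (q ^ 2 - 1) R ∨ AllDvd (q ^ 2 + 1) R := by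
  by_cases hex : ∃ P : F[X], Irreducible P ∧ P.Monic ∧ P ∣ R ∧ τ P = P ∧ P.natDegree = 4
  · obtain ⟨P, hP, hm, hPR, ht, h4⟩ := hex
    rcases factor_cases hR h1 hP hm hPR with h | ⟨-, -, -, b, hb, hdeg, hdvd⟩ | ⟨h, -⟩
    · rw [h, natDegree_X_sub_C] at h4; omega
    · obtain rfl : b = 2 := by omega
      exact Or.inr ((eq_of_monic_of_dvd_of_natDegree_le hm hR.monic hPR (by omega)) ▸
        allDvd_irreducible hP hm hdvd)
    · exact absurd ht h
  · refine Or.inl fun P hP hm hPR => ?_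
    obtain ⟨c, hc⟩ := hq.pow (n := 2)
    rcases factor_cases hR h1 hP hm hPR with rfl | ⟨ht, -, -, b, hb, hdeg, hdvd⟩ | ⟨-, hs, hd', hdeg, hall⟩
    · exact allDvd_X_add_one (F := F) ⟨c, by omega⟩ _ hP hm dvd_rfl
    · have := natDegree_le_of_dvd hPR hR.monic.ne_zero
      rcases (show b = 1 ∨ b = 2 by omega) with rfl | rfl
      · rw [pow_one] at hdvd
        exact dvd_X_pow_trans hdvd sq_facts.1
      · exact absurd ⟨P, hP, hm, hPR, ht, by omega⟩ hex
    · have := natDegree_le_of_dvd hd' hR.monic.ne_zero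
      have h := hall P hP hm (dvd_mul_right _ _)
      rcases (show P.natDegree = 1 ∨ P.natDegree = 2 by have := hP.natDegree_pos; omega) with e | e <;> rw [e] at h
      · rw [pow_one] at h; exact dvd_X_pow_trans h sq_facts.2
      · exact h

end CfsgLib.Spectrum.OmegaNine
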