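import Cfsg.Agent.Lib.Spectrum.OmegaNine.Targets
import Cfsg.Agent.Lib.Spectrum.OmegaNine.Chains
import Cfsg.Agent.Lib.Spectrum.OmegaNine.Poly
import Cfsg.Agent.Lib.PrimeGraphOdd.Mat
import Cfsg.Agent.Lib.Classical.OrthPrimeReal

/-!
Elements of `Ω⁺(8,q)` whose semisimple part has no fixed vector.
-/

set_option autoImplicit false
set_option linter.unusedSectionVars false
set_option maxHeartbeats 800000

namespace CfsgLib.Spectrum.OmegaNine

open Polynomial CfsgLib.Orth CfsgLib.Classical CfsgLib.Classical.UnitaryTwistPoly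

variable {F : Type*} [Field F] [Fintype F] {p : ℕ} [Fact p.Prime] [CharP F p]
variable {ι : Type} [Fintype ι] [DecidableEq ι] {Q : QuadraticForm F (ι → F)}

local notation "τ" => tw (RingHom.id F)
local notation "q" => Fintype.card F

theorem tw_X_pow_sub_one {k : ℕ} (hk : 0 < k) : τ (X ^ k - 1 : F[X]) = X ^ k - 1 := by
  rw [tw]
  have h : (X ^ k - 1 : F[X]).natDegree = k := natDegree_X_pow_sub_C (n := k) (r := (1 : F))
  refine Polynomial.ext fun n => ?_
  simp only [Polynomial.map_id, RingHom.id_apply, coeff_C_mul, coeff_reverse, h]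
  rcases eq_or_ne n 0 with rfl | hn
  · rw [revAt_le hk.le]; simp [coeff_one, hk.ne', coeff_X_pow, hk.ne]
  · rcases lt_or_ge k n with h' | h'
    · rw [revAt_eq_self_of_lt h']; simp [coeff_one, hn, coeff_X_pow, h'.ne', hk.ne, hk.ne']
    · rw [revAt_le h']
      rcases eq_or_ne n k with rfl | hne
      · simp [coeff_one, coeff_X_pow, hk.ne', hk.ne]
      · simp [coeff_one, coeff_X_pow, hn, hne, hk.ne, hk.ne', show k - n ≠ k by omega, show k - n ≠ 0 by omega]

/-- The characteristic polynomial of an isometry. -/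
noncomputable def chi (g : Grp Q) : F[X] := ((g : GL ι F) : Matrix ι ι F).charpoly

theorem chi_eq (g : Grp Q) : (act Q g).charpoly = chi g := Matrix.charpoly_toLin' _

theorem chi_selfRec (hB : Nondeg Q) (g : Grp Q) : SelfRec (chi g) :=
  ⟨Matrix.charpoly_monic _, OrthPrimeReal.tw_charpoly Q hB g g.2, fun h => by
    have := ((g : GL ι F) : Matrix ι ι F).det_eq_sign_charpoly_coeff
    rw [show ((g : GL ι F) : Matrix ι ι F).charpoly.coeff 0 = 0 from h, mul_zero] at this
    exact ((Matrix.isUnit_iff_isUnit_det _).mp (g : GL ι F).isUnit).ne_zero this⟩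

theorem chi_natDegree (g : Grp Q) : (chi g).natDegree = Fintype.card ι := Matrix.charpoly_natDegree_eq_dim _

theorem chi_eval_one {s : Grp Q} (hfix : ∀ x, ap s x = x → x = 0) : (chi s).eval 1 ≠ 0 := fun h => by
  rw [← chi_eq] at h
  obtain ⟨x, hx⟩ := ((Module.End.hasEigenvalue_iff_isRoot_charpoly (act Q s) 1).2 h).exists_hasEigenvector
  exact hx.2 (hfix x (by simpa [act_apply] using hx.apply_eq_smul))

include p in
theorem dvd_of_allDvd {s : Grp Q} (hm : (orderOf s).Coprime p) {N : ℕ} (hN : 0 < N)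
    (h : AllDvd N (chi s)) : orderOf s ∣ N := by
  refine orderOf_dvd_of_pow_eq_one (Subtype.ext (Units.ext ?_))
  rw [SubgroupClass.coe_pow, Units.val_pow_eq_pow_val, OneMemClass.coe_one, Units.val_one]
  refine OrthPrimeReal.pow_eq_one_of_factors (p := p) hN _ hm ?_ fun P hP hd => ?_
  · rw [← Units.val_pow_eq_pow_val, ← SubgroupClass.coe_pow, pow_orderOf_eq_one]; rfl
  · classical
    exact (normalize_associated P).symm.dvd.trans (h _ ((normalize_associated P).symm.irreducible hP)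
      (monic_normalize hP.ne_zero) (normalize_dvd_iff.2 hd))

include p in
theorem aeval_semisimple {s : Grp Q} (hm : (orderOf s).Coprime p) :
    Squarefree (X ^ orderOf s - 1 : F[X]) ∧ aeval (act Q s) (X ^ orderOf s - 1 : F[X]) = 0 :=
  ⟨PrimeGraphOdd.squarefree_X_pow_sub_one (cast_ne_zero (p := p) hm),
    by rw [map_sub, map_pow, aeval_X, map_one, ← map_pow, pow_orderOf_eq_one, map_one, sub_self]⟩

theorem eq_zero_of_coprime_annihilators {s : Grp Q} {A C : F[X]} (h : IsCoprime A C) {x : ι → F}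
    (hA : aeval (act Q s) A x = 0) (hC : aeval (act Q s) C x = 0) : x = 0 := by
  obtain ⟨a, b, hab⟩ := h
  have e := congrArg (fun P => aeval (act Q s) P x) hab
  simp only [map_add, map_mul, map_one, LinearMap.add_apply, Module.End.mul_apply, hA, hC, map_zero, add_zero,
    Module.End.one_apply] at e
  exact e.symm

/-- If all factors have the same roots of unity the action is free. -/
theorem free_of_uniform {s : Grp Q} {k : ℕ} {x : ι → F} (hx : ap (s ^ k) x = x) (hx0 : x ≠ 0) :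
    ∃ P : F[X], Irreducible P ∧ P.Monic ∧ P ∣ chi s ∧ P ∣ X ^ k - 1 := by
  by_contra h
  push Not at h
  have hcop : IsCoprime (chi s) (X ^ k - 1 : F[X]) := IsRelPrime.isCoprime fun d hd1 hd2 => by
    by_contra hu
    obtain ⟨P, hPm, hP, hPd⟩ := exists_monic_irreducible_factor d hu
    exact h P hP hPm (hPd.trans hd1) (hPd.trans hd2)
  refine hx0 (eq_zero_of_coprime_annihilators (s := s) hcop ?_ ?_)
  · rw [← chi_eq, LinearMap.aeval_self_charpoly, LinearMap.zero_apply]
  · rw [map_sub, map_pow, aeval_X, map_one, LinearMap.sub_apply, Module.End.one_apply, ← ap_pow_eq, hx, sub_self]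

/-- The two sign types of tori of dimension four. -/
theorem lcm_half {m : ℕ} (hq : Odd q) (h : 2 * m ∣ q ^ 4 - 1) : m ∣ Nat.lcm (q ^ 2 - 1) (q ^ 2 + 1) := by
  obtain ⟨c, hc⟩ := hq.pow (n := 2)
  have e : q ^ 4 - 1 = (q ^ 2 + 1) * (q ^ 2 - 1) := by rw [← Nat.sq_sub_sq, one_pow, ← pow_mul]
  have hg : Nat.gcd (q ^ 2 - 1) (q ^ 2 + 1) = 2 := by
    have h2 : 2 ∣ Nat.gcd (q ^ 2 - 1) (q ^ 2 + 1) := Nat.dvd_gcd ⟨c, by omega⟩ ⟨c + 1, by omega⟩
    have h3 := Nat.dvd_sub (Nat.gcd_dvd_right (q ^ 2 - 1) (q ^ 2 + 1)) (Nat.gcd_dvd_left (q ^ 2 - 1) (q ^ 2 + 1))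
    rw [show q ^ 2 + 1 - (q ^ 2 - 1) = 2 by have := Fintype.one_lt_card (α := F); omega] at h3
    exact Nat.dvd_antisymm h3 h2
  refine Nat.dvd_of_mul_dvd_mul_left two_pos ?_
  have hl := Nat.gcd_mul_lcm (q ^ 2 - 1) (q ^ 2 + 1)
  rw [hg] at hl
  rw [hl]
  rwa [e, mul_comm (q ^ 2 + 1)] at h

theorem card_dvd_of_free {α : Type*} [Finite α] {G : Type*} [Group G] [Finite G] (ρ : G →* Equiv.Perm α)
    (hfree : ∀ g x, ρ g x = x → g = 1) : Nat.card G ∣ Nat.card α := by
  classical
  letI : MulAction G α := MulAction.compHom α ρ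
  haveI := Fintype.ofFinite (MulAction.orbitRel.Quotient G α)
  rw [Nat.card_congr (MulAction.selfEquivSigmaOrbitsQuotientStabilizer G α), Nat.card_sigma]
  refine Finset.dvd_sum fun ω _ => ?_
  have : MulAction.stabilizer G (Quotient.out ω : α) = ⊥ := (Subgroup.eq_bot_iff_forall _).2 fun g hg =>
    hfree g _ (MulAction.mem_stabilizer_iff.1 hg)
  rw [this]
  exact dvd_of_eq (Nat.card_congr (QuotientGroup.quotientBot (G := G)).toEquiv).symm

variable {a b : F} {Qp : QuadraticForm F (Fin 4 ⊕ Fin 4 → F)}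

include p in
theorem card_unit_vectors (hab : ∀ z₁ z₂ : F, z₁ ^ 2 + a * z₁ * z₂ + b * z₂ ^ 2 = 0 → z₁ = 0 ∧ z₂ = 0)
    (hQp : ⇑Qp = Cfsg.quadFormPlus 4 F) :
    ∃ S, S ∣ q ^ 4 ∧ Nat.card {x : Fin 4 ⊕ Fin 4 → F // Qp x = 1} = (q ^ 4 - 1) * S := by
  obtain ⟨L, _, _, _, hd, hc⟩ := PrimeGraphClassical.exists_field (F := F) p 4 (by norm_num)
  obtain ⟨e, he⟩ := plusModel_iso (F := F) L hab hd
  refine ⟨_, hc ▸ card_slice_dvd L ⊤ (let ⟨w, hw⟩ := exists_trace_eq (F := F) L 1; ⟨w, trivial, hw⟩), ?_⟩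
  rw [← hc, ← Nat.card_units, ← plusModel_card]
  exact Nat.card_congr (Equiv.subtypeEquiv e.symm.toEquiv fun x => by
    show _ ↔ plusModel (F := F) L (e.symm x) = 1
    rw [← he, e.apply_symm_apply, hQp])

include p in
/-- The semisimple orders. -/
theorem semisimple_dvd (hq : Odd q) (hab : ∀ z₁ z₂ : F, z₁ ^ 2 + a * z₁ * z₂ + b * z₂ ^ 2 = 0 → z₁ = 0 ∧ z₂ = 0)
    (hQp : ⇑Qp = Cfsg.quadFormPlus 4 F) (hB : Nondeg Qp) {s : Grp Qp} (hs : s ∈ Cfsg.Omega F ⇑Qp)
    (hm : (orderOf s).Coprime p) (hfix : ∀ x, ap s x = x → x = 0) :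
    orderOf s ∣ Nat.lcm (q ^ 2 - 1) (q ^ 2 + 1) ∨ orderOf s ∣ Nat.lcm (q ^ 3 - 1) (q + 1) ∨
      orderOf s ∣ Nat.lcm (q - 1) (q ^ 3 + 1) := by
  classical
  have hq2 : 3 ≤ q := by obtain ⟨c, hc⟩ := hq; have := Fintype.one_lt_card (α := F); omega
  have hR := chi_selfRec hB s
  have h1 := chi_eval_one hfix
  have h8 : (chi s).natDegree = 8 := by rw [chi_natDegree]; rfl
  have ev : ∀ {A : F[X]}, A ∣ chi s → A.eval 1 ≠ 0 := fun hd e => h1 (eval_eq_zero_of_dvd_of_eval_eq_zero hd e)
  have hpos : ∀ n, n ≠ 0 → 1 < q ^ n := fun n hn => Nat.one_lt_pow hn Fintype.one_lt_card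
  -- the free cases
  by_cases hbig : ∃ P : F[X], Irreducible P ∧ P.Monic ∧ P ∣ chi s ∧
      ((τ P = P ∧ P.natDegree = 8) ∨ (τ P ≠ P ∧ P.natDegree = 4))
  · obtain ⟨P, hP, hPm, hPd, hcase⟩ := hbig
    have huni : ∀ k, 0 < k → ∀ P' : F[X], Irreducible P' → P'.Monic → P' ∣ chi s → P' ∣ X ^ k - 1 → AllDvd k (chi s) := by
      intro k hk P' hP' hPm' hPd' hPk
      rcases factor_cases hR h1 hP hPm hPd with h | ⟨ht, -, -, -⟩ | ⟨ht, hs', hd', hdeg, -⟩
      · rcases hcase with ⟨-, h'⟩ | ⟨-, h'⟩ <;> rw [h, natDegree_X_sub_C] at h' <;> omega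
      · obtain ⟨-, h'⟩ := hcase.resolve_right fun h => h.1 ht
        have e : chi s = P := eq_of_monic_of_dvd_of_natDegree_le hPm hR.monic hPd (by omega)
        have e' : P' = P := eq_of_monic_of_associated hPm' hPm (hP'.associated_of_dvd hP (e ▸ hPd'))
        rw [e]
        exact allDvd_irreducible hP hPm (e' ▸ hPk)
      · obtain ⟨-, h'⟩ := hcase.resolve_left fun h => ht h.1
        have e : chi s = P * τ P := eq_of_monic_of_dvd_of_natDegree_le hs'.monic hR.monic hd' (by omega)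
        have h0 : P.coeff 0 ≠ 0 := coeff_zero_ne_of_dvd hPd hR.const
        have hi := PrimeGraphOdd.irreducible_tw hP hPm h0
        have htt : τ (τ P) = P := tw_tw _ (fun _ => rfl) hPm h0
        have hk' := tw_dvd (RingHom.id F) hPk
        rw [tw_X_pow_sub_one hk] at hk'
        rw [e] at hPd' ⊢
        rcases hP'.prime.dvd_or_dvd hPd' with h | h
        · obtain rfl := eq_of_monic_of_associated hPm' hPm (hP'.associated_of_dvd hP h)
          exact (allDvd_irreducible hP hPm hPk).mul (allDvd_irreducible hi (monic_tw _ h0) hk')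
        · obtain rfl := eq_of_monic_of_associated hPm' (monic_tw _ h0) (hP'.associated_of_dvd hi h)
          rw [htt] at hk'
          exact (allDvd_irreducible hP hPm hk').mul (allDvd_irreducible hi (monic_tw _ h0) hPk)
    have hfree : ∀ k, 0 < k → k < orderOf s → ∀ x, ap (s ^ k) x = x → x = 0 := fun k h0 hk x hx => by
      by_contra hx0
      obtain ⟨P', hP', hPm', hd1, hd2⟩ := free_of_uniform hx hx0
      have := Nat.le_of_dvd h0 (dvd_of_allDvd (p := p) hm h0 (huni k h0 P' hP' hPm' hd1 hd2))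
      omega
    obtain ⟨S, hS, hX⟩ := card_unit_vectors (p := p) hab hQp
    have hcardm : orderOf s ∣ (q ^ 4 - 1) * S := by
      rw [← hX, ← Nat.card_zpowers]
      refine card_dvd_of_free ((normPerm (1 : F)).comp (Subgroup.zpowers s).subtype) fun g x hx => ?_
      obtain ⟨k, hk⟩ := mem_powers_iff_mem_zpowers.2 g.2
      have hk' : s ^ (k % orderOf s) = (g : Grp Qp) := (pow_mod_orderOf s k).trans hk
      by_contra hne
      have hk0 : k % orderOf s ≠ 0 := fun e => hne (Subtype.ext (by rw [← hk', e, pow_zero]; rfl))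
      have h := hfree _ (Nat.pos_of_ne_zero hk0) (Nat.mod_lt _ (orderOf_pos s)) x.1 (by
        rw [hk']; exact congrArg Subtype.val hx)
      have := x.2
      rw [h, QuadraticMap.map_zero] at this
      exact zero_ne_one this
    obtain ⟨e, hp', he⟩ := FiniteField.card F p
    have hcq : (orderOf s).Coprime (q ^ 4) := by rw [he, ← pow_mul]; exact hm.pow_right _
    have hm4 : orderOf s ∣ q ^ 4 - 1 := (hcq.coprime_dvd_right hS).dvd_of_dvd_mul_right hcardm
    refine Or.inl ?_
    rcases hcase with ⟨ht, h'⟩ | ⟨-, -⟩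
    · -- the elliptic torus does not act on the split space
      rcases factor_cases hR h1 hP hPm hPd with h | ⟨-, -, -, c, hc, hdeg, hdvd⟩ | ⟨h, -⟩
      · rw [h, natDegree_X_sub_C] at h'; omega
      · obtain rfl : c = 4 := by omega
        have eP : chi s = P := eq_of_monic_of_dvd_of_natDegree_le hPm hR.monic hPd (by omega)
        have h5 : orderOf s ∣ q ^ 4 + 1 := dvd_of_allDvd (p := p) hm (by omega)
          (eP ▸ allDvd_irreducible hP hPm hdvd)
        have h2 : orderOf s ∣ 2 := by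
          have := Nat.dvd_sub h5 hm4
          rwa [show q ^ 4 + 1 - (q ^ 4 - 1) = 2 by have := hpos 4 (by norm_num); omega] at this
        obtain ⟨c, hc⟩ := hq.pow (n := 2)
        exact h2.trans ((show 2 ∣ q ^ 2 + 1 from ⟨c + 1, by omega⟩).trans (Nat.dvd_lcm_right _ _))
      · exact absurd ht h
    · refine lcm_half hq ?_
      obtain ⟨c, hc⟩ := hq.pow (n := 4)
      have hodd2 : (2 : ℕ).Coprime (q ^ 4) := Nat.coprime_two_left.2 hq.pow
      rcases Nat.even_or_odd (orderOf s) with hev | hod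
      · have hn : 2 ≤ Module.finrank F (Fin 4 ⊕ Fin 4 → F) := by simp
        have hsp := ((mem_omega_iff hB hn (fun h => by simp at h) s).1 hs).2 (fun e2 => by
          have h := FiniteField.cast_card_eq_zero F
          obtain ⟨d, hd⟩ := hq
          rw [hd, Nat.cast_add, Nat.cast_mul, Nat.cast_ofNat, e2, zero_mul, zero_add, Nat.cast_one] at h
          exact one_ne_zero h)
        unfold spinor at hsp
        simp only [MonoidHom.comp_apply] at hsp
        letI := Fintype.ofFinite {x : Fin 4 ⊕ Fin 4 → F // Qp x = 1}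
        letI := Classical.decEq {x : Fin 4 ⊕ Fin 4 → F // Qp x = 1}
        set σ := normPerm (Q := Qp) (1 : F) s with hσ
        have hmove : ∀ x k, 0 < k → k < orderOf s → (σ ^ k) x ≠ x := fun x k h0 hk h => by
          have h' : ap (s ^ k) x.1 = x.1 := by
            have := congrArg Subtype.val h
            rwa [hσ, ← map_pow] at this
          have hz := hfree k h0 hk _ h'
          have := x.2
          rw [hz, QuadraticMap.map_zero] at this
          exact zero_ne_one this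
        have hm2 : 2 ≤ orderOf s := by
          obtain ⟨d, hd⟩ := hev
          have := orderOf_pos s
          omega
        obtain ⟨hsign, hcard⟩ := OddOrtho.sign_of_semiregular σ _ hev (orderOf_pos s)
          (by rw [hσ, ← map_pow, pow_orderOf_eq_one, map_one]) fun x _ => hmove x
        have hsupp : σ.support.card = (q ^ 4 - 1) * S := by
          have hall : σ.support = Finset.univ := Finset.eq_univ_iff_forall.2 fun x => by
            rw [Equiv.Perm.mem_support]
            simpa using hmove x 1 one_pos (by omega)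
          rw [hall, Finset.card_univ, ← Nat.card_eq_fintype_card, hX]
        have hs1 : Equiv.Perm.sign σ = 1 := by convert hsp
        rw [hs1] at hsign
        obtain ⟨d, hd⟩ := (neg_one_pow_eq_one_iff_even (by decide)).1 hsign.symm
        rw [hsupp] at hcard hd
        rw [hd] at hcard
        have : 2 * orderOf s ∣ (q ^ 4 - 1) * S := ⟨d, by rw [← hcard]; ring⟩
        exact ((Nat.Coprime.mul_left hodd2 hcq).coprime_dvd_right hS).dvd_of_dvd_mul_right this
      · exact (Nat.coprime_two_left.2 hod).mul_dvd_of_dvd_of_dvd ⟨c, by omega⟩ hm4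
  -- factors of degree three or six
  by_cases hmid : ∃ P : F[X], Irreducible P ∧ P.Monic ∧ P ∣ chi s ∧
      ((τ P = P ∧ P.natDegree = 6) ∨ (τ P ≠ P ∧ P.natDegree = 3))
  · obtain ⟨P, hP, hPm, hPd, hcase⟩ := hmid
    rcases factor_cases hR h1 hP hPm hPd with h | ⟨ht, -, hs', c, hc, hdeg, hdvd⟩ | ⟨ht, hs', hd', hdeg, hall⟩
    · rcases hcase with ⟨-, h'⟩ | ⟨-, h'⟩ <;> rw [h, natDegree_X_sub_C] at h' <;> omega
    · obtain ⟨-, h'⟩ := hcase.resolve_right fun h => h.1 ht
      obtain rfl : c = 3 := by omega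
      obtain ⟨R, hRe, hRs, hRd⟩ := hR.exists_cofactor hs' hPd
      have hRv := ev (hRe ▸ dvd_mul_left R P)
      have hA := allDvd_irreducible hP hPm hdvd
      refine Or.inr (Or.inr ?_)
      rcases small_two hRs hRv (by omega) hq with h | h
      · exact dvd_of_allDvd (p := p) hm (Nat.lcm_pos (by omega) (by omega))
          (hRe ▸ (hA.mono (Nat.dvd_lcm_right _ _)).mul (h.mono (Nat.dvd_lcm_left _ _)))
      · exact dvd_of_allDvd (p := p) hm (Nat.lcm_pos (by omega) (by omega))
          (hRe ▸ (hA.mono (Nat.dvd_lcm_right _ _)).mul (h.mono ((show q + 1 ∣ q ^ 3 + 1 by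
            simpa using (by decide : Odd 3).nat_add_dvd_pow_add_pow q 1).trans (Nat.dvd_lcm_right _ _))))
    · obtain ⟨-, h'⟩ := hcase.resolve_left fun h => ht h.1
      rw [h'] at hall
      obtain ⟨R, hRe, hRs, hRd⟩ := hR.exists_cofactor hs' hd'
      have hRv := ev (hRe ▸ dvd_mul_left R (P * τ P))
      have h13 := hpos 3 (by norm_num)
      refine Or.inr (Or.inl ?_)
      rcases small_two hRs hRv (by omega) hq with h | h
      · exact dvd_of_allDvd (p := p) hm (Nat.lcm_pos (by omega) (by omega))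
          (hRe ▸ (hall.mono (Nat.dvd_lcm_left _ _)).mul (h.mono ((show q - 1 ∣ q ^ 3 - 1 by
            simpa using Nat.sub_dvd_pow_sub_pow q 1 3).trans (Nat.dvd_lcm_left _ _))))
      · exact dvd_of_allDvd (p := p) hm (Nat.lcm_pos (by omega) (by omega))
          (hRe ▸ (hall.mono (Nat.dvd_lcm_left _ _)).mul (h.mono (Nat.dvd_lcm_right _ _)))
  -- small factors
  refine Or.inl (dvd_of_allDvd (p := p) hm
    (Nat.lcm_pos (by have := hpos 2 two_ne_zero; omega) (by omega)) fun P hP hPm hPd => ?_)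
  have h12 := hpos 2 two_ne_zero
  rcases factor_cases hR h1 hP hPm hPd with rfl | ⟨ht, -, -, c, hc, hdeg, hdvd⟩ | ⟨ht, -, hd', hdeg, hall⟩
  · obtain ⟨d, hd⟩ := hq.pow (n := 2)
    exact (allDvd_X_add_one (F := F) (show Even (q ^ 2 - 1) from ⟨d, by omega⟩)).mono (Nat.dvd_lcm_left _ _) _ hP hPm dvd_rfl
  · have := natDegree_le_of_dvd hPd hR.monic.ne_zero
    rcases (show c = 1 ∨ c = 2 ∨ c = 3 ∨ c = 4 by omega) with rfl | rfl | rfl | rfl
    · rw [pow_one] at hdvd
      exact dvd_X_pow_trans hdvd (sq_facts.1.trans (Nat.dvd_lcm_left _ _))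
    · exact dvd_X_pow_trans hdvd (Nat.dvd_lcm_right _ _)
    · exact absurd ⟨P, hP, hPm, hPd, Or.inl ⟨ht, by omega⟩⟩ hmid
    · exact absurd ⟨P, hP, hPm, hPd, Or.inl ⟨ht, by omega⟩⟩ hbig
  · have := natDegree_le_of_dvd hd' hR.monic.ne_zero
    have h := hall P hP hPm (dvd_mul_right _ _)
    rcases (show P.natDegree = 1 ∨ P.natDegree = 2 ∨ P.natDegree = 3 ∨ P.natDegree = 4 by
      have := hP.natDegree_pos; omega) with e | e | e | e
    · rw [e, pow_one] at h
      exact dvd_X_pow_trans h (sq_facts.2.trans (Nat.dvd_lcm_left _ _))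
    · rw [e] at h
      exact dvd_X_pow_trans h (Nat.dvd_lcm_left _ _)
    · exact absurd ⟨P, hP, hPm, hPd, Or.inr ⟨ht, e⟩⟩ hmid
    · exact absurd ⟨P, hP, hPm, hPd, Or.inr ⟨ht, e⟩⟩ hbig

end CfsgLib.Spectrum.OmegaNine
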