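import Cfsg.Agent.Lib.Spectrum.OmegaNine.PlusCase
import Cfsg.Agent.Lib.PrimeGraphOdd.OrthTools

/-!
Elements of `Ω⁺(8,q)` with a non-trivial unipotent part and a fixed-point-free semisimple part.
-/

set_option autoImplicit false
set_option linter.unusedSectionVars false
set_option maxHeartbeats 800000

namespace CfsgLib.Spectrum.OmegaNine

open Polynomial CfsgLib.Orth CfsgLib.Classical CfsgLib.Classical.UnitaryTwistPoly

variable {F : Type*} [Field F] [Fintype F] {p : ℕ} [Fact p.Prime] [CharP F p]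
variable {ι : Type} [Fintype ι] [DecidableEq ι] {Q : QuadraticForm F (ι → F)}

local notation "τ" => tw (RingHom.id F)
local notation "q" => Fintype.card F

include p in
/-- A long chain gives a repeated factor, or a large eigenspace for `-1`. -/
theorem exists_repeat (hB : Nondeg Q) (h2 : (2 : F) ≠ 0) (hev : Even (Fintype.card ι)) {s g : Grp Q}
    (hs : dickson hB s = 1) (hm : (orderOf s).Coprime p) (hc : Commute s g) {J : ℕ}
    (hJ : (act Q g - 1) ^ J = 0) {j : ℕ} (hj : (act Q g - 1) ^ j ≠ 0) :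
    (∃ P : F[X], Irreducible P ∧ P.Monic ∧ P ≠ X - C (-1) ∧ P ^ (j + 1) ∣ chi s) ∨
      ∃ k, j + 2 ≤ 2 * k ∧ (X - C (-1) : F[X]) ^ (2 * k) ∣ chi s := by
  classical
  have : Finite (ι → F) := Pi.finite
  set N := act Q g - 1 with hN
  obtain ⟨hsq, hR⟩ := aeval_semisimple (p := p) hm
  have hcN : Commute N (act Q s) := ((hc.symm.map (act Q))).sub_left (Commute.one_left _)
  obtain ⟨P, hP, hPm, hPd, y, hy0, hy⟩ := exists_chain hsq hR hcN ⟨J, hJ⟩ hj
  rw [chi_eq] at hPd
  by_cases hPe : P = X - C (-1)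
  swap
  · exact Or.inl ⟨P, hP, hPm, hPe, hPd⟩
  refine Or.inr ?_
  obtain ⟨n, hn, hnc⟩ := PrimeGraphOdd.exists_neg hB
  have hns : ∀ x, ap (n * s) x = -ap s x := fun x => by rw [ap_mul, hn]
  set K := fixSpace (n * s) with hK
  have hmemK : ∀ x, x ∈ K ↔ ap s x = -x := fun x => by
    rw [hK, mem_fixSpace, hns, neg_eq_iff_eq_neg]
  have hn2 : n ^ 2 = 1 := ext_ap fun x => by rw [pow_two, ap_mul, hn, hn, neg_neg, ap_one]
  have hordF : (orderOf (n * s) : F) ≠ 0 := by
    refine cast_ne_zero (p := p) ?_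
    have hp2 : (2 : ℕ).Coprime p := (Nat.Prime.coprime_iff_not_dvd Nat.prime_two).2 fun h => h2 (by
      have := (Nat.prime_dvd_prime_iff_eq Nat.prime_two (Fact.out : p.Prime)).1 h
      subst this
      exact_mod_cast CharP.cast_eq_zero F 2)
    exact (Nat.Coprime.mul_left hp2 hm).coprime_dvd_left ((hnc s).orderOf_mul_dvd_lcm.trans
      ((Nat.lcm_dvd_mul _ _).trans (Nat.mul_dvd_mul_right (orderOf_dvd_of_pow_eq_one hn2) _)))
  have hKnd := nondegOn_fix hB hordF
  have hinv : ∀ x ∈ K, ap g x ∈ K := fun x hx => fix_invariant ((hnc g).mul_left hc) hx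
  have hKeven : Even (Module.finrank F K) := by
    have hnd : dickson hB n = 1 := by
      have : fixSpace n = ⊥ := (Submodule.eq_bot_iff _).2 fun x hx => by
        have h := mem_fixSpace.1 hx
        rw [hn] at h
        exact (smul_eq_zero.1 (show (2 : F) • x = 0 by rw [two_smul]; nth_rw 1 [← h]; exact neg_add_cancel x)).resolve_left h2
      show (-1 : ℤˣ) ^ (_ + _) = 1
      rw [this, finrank_bot, add_zero, Module.finrank_fintype_fun_eq_card, hev.neg_one_pow]
    have h : dickson hB (n * s) = 1 := by rw [map_mul, hnd, hs, one_mul]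
    have h' := (neg_one_pow_eq_one_iff_even (by decide)).1 h
    rw [Module.finrank_fintype_fun_eq_card, Nat.even_add] at h'
    exact h'.1 hev
  obtain ⟨k, hk⟩ := hKeven
  have hk2 : Module.finrank F K = 2 * k := by omega
  subst hPe
  have hzK : (N ^ j) y ∈ K := by
    rw [hmemK]
    rwa [map_sub, aeval_X, aeval_C, map_neg, map_one, LinearMap.sub_apply, sub_eq_zero, LinearMap.neg_apply,
      Module.End.one_apply, act_apply] at hy
  obtain ⟨a, ha, b, hb, hab⟩ := exists_decomp hB hKnd y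
  have hNmem : ∀ (W : Submodule F (ι → F)), (∀ x ∈ W, ap g x ∈ W) → ∀ i, ∀ x ∈ W, (N ^ i) x ∈ W := by
    intro W hW i
    induction i with
    | zero => intro x hx; exact hx
    | succ i ih => intro x hx; rw [pow_succ, Module.End.mul_apply]; exact ih _ (W.sub_mem (hW x hx) hx)
  have hborth : (N ^ j) b ∈ orth Q K := hNmem _ (fun x hx => orth_invariant
    (fun w hw => fix_invariant (((hnc g).mul_left hc).inv_right) hw) hx) j b hb
  have haK : (N ^ j) a ≠ 0 := fun e => hy0 (by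
    rw [hab, map_add, e, zero_add] at hzK ⊢
    exact nondeg_inf hKnd hzK hborth)
  refine ⟨k, ?_, ?_⟩
  · have hblock := even_block h2 g hKnd hinv (J := J) (fun x _ => by rw [← hN, hJ]; rfl) hk2 ha
    by_contra hlt
    refine haK ?_
    obtain ⟨d, hd⟩ := Nat.exists_eq_add_of_le (show 2 * k - 1 ≤ j by omega)
    rw [hd, add_comm, pow_add, Module.End.mul_apply, hblock, map_zero]
  · rw [← hk2]
    have hle := LinearMap.finrank_genEigenspace_le (act Q s) (-1) 1
    have hKe : Module.End.genEigenspace (act Q s) (-1) (1 : ℕ) = K := by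
      ext x
      rw [Module.End.genEigenspace_nat, pow_one, LinearMap.mem_ker, hmemK, LinearMap.sub_apply,
        LinearMap.smul_apply, Module.End.one_apply, neg_one_smul, sub_eq_zero, act_apply]
    rw [hKe, chi_eq] at hle
    exact (pow_dvd_pow _ hle).trans (pow_rootMultiplicity_dvd _ _)

include p in
/-- The semisimple orders allowed by a unipotent part. -/
theorem repeat_dvd (hq : Odd q) (h2 : (2 : F) ≠ 0) (hB : Nondeg Q) (hd : Fintype.card ι = 8) {s g : Grp Q}
    (hs : dickson hB s = 1) (hm : (orderOf s).Coprime p) (hfix : ∀ x, ap s x = x → x = 0) (hc : Commute s g)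
    {J : ℕ} (hJ : (act Q g - 1) ^ J = 0) :
    ((act Q g - 1) ≠ 0 → orderOf s ∣ q ^ 2 - 1 ∨ orderOf s ∣ Nat.lcm (q ^ 2 + 1) (q - 1) ∨
      orderOf s ∣ Nat.lcm (q ^ 2 + 1) (q + 1)) ∧
    ∀ j, 3 ≤ j → (act Q g - 1) ^ j ≠ 0 →
      (j ≤ 4 ∧ (orderOf s ∣ q - 1 ∨ orderOf s ∣ q + 1)) ∨ (j ≤ 6 ∧ orderOf s ∣ 2) := by
  have hR := chi_selfRec hB s
  have h1 := chi_eval_one hfix
  have h8 : (chi s).natDegree = 8 := by rw [chi_natDegree, hd]
  have ev : ∀ {A : F[X]}, A ∣ chi s → A.eval 1 ≠ 0 := fun hd e => h1 (eval_eq_zero_of_dvd_of_eval_eq_zero hd e)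
  have hev : Even (Fintype.card ι) := by rw [hd]; decide
  have hq2 : 3 ≤ q := by obtain ⟨c, hc⟩ := hq; have := Fintype.one_lt_card (α := F); omega
  have h12 : 1 < q ^ 2 := Nat.one_lt_pow two_ne_zero Fintype.one_lt_card
  obtain ⟨c2, hc2⟩ := hq.pow (n := 2)
  obtain ⟨c1, hc1⟩ := hq
  have hdegX : ∀ c, ((X - C (-1) : F[X]) ^ c).natDegree = c := fun c => by
    rw [natDegree_pow, natDegree_X_sub_C, mul_one]
  have hblock : ∀ {A : F[X]}, SelfRec A → A ∣ chi s → A.natDegree = 4 → AllDvd (q + 1) A →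
      orderOf s ∣ q ^ 2 - 1 ∨ orderOf s ∣ Nat.lcm (q ^ 2 + 1) (q + 1) := by
    intro A hAs hAd hA4 hA
    obtain ⟨R, hRe, hRs, hRd⟩ := hR.exists_cofactor hAs hAd
    rcases small_four hRs (ev (hRe ▸ dvd_mul_left R A)) (by omega) ⟨c1, hc1⟩ with h | h
    · exact Or.inl (dvd_of_allDvd (p := p) hm (by omega) (hRe ▸ (hA.mono sq_facts.1).mul h))
    · exact Or.inr (dvd_of_allDvd (p := p) hm (Nat.lcm_pos (by omega) (by omega))
        (hRe ▸ (hA.mono (Nat.dvd_lcm_right _ _)).mul (h.mono (Nat.dvd_lcm_left _ _))))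
  refine ⟨fun hne => ?_, fun j hj hne => ?_⟩
  · rcases exists_repeat (p := p) hB h2 hev hs hm hc hJ (j := 1) (by rwa [pow_one]) with
      ⟨P, hP, hPm, hPne, hPd⟩ | ⟨k, hk, hkd⟩
    · have hP1 : P ∣ chi s := (dvd_pow_self P two_ne_zero).trans hPd
      rcases factor_cases hR h1 hP hPm hP1 with h | ⟨-, -, hs', b, hb, hdeg, hdvd⟩ | ⟨ht, hs', -, hdeg, hall⟩
      · exact absurd h hPne
      · have hle := natDegree_le_of_dvd hPd hR.monic.ne_zero
        rw [natDegree_pow, h8, hdeg] at hle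
        rcases (show b = 1 ∨ b = 2 by omega) with rfl | rfl
        · rw [pow_one] at hdvd
          have hA := (allDvd_irreducible hP hPm hdvd).pow 2
          rcases hblock (hs'.pow 2) hPd (by rw [natDegree_pow, hdeg]) hA with h | h
          · exact Or.inl h
          · exact Or.inr (Or.inr h)
        · refine Or.inr (Or.inl (dvd_of_allDvd (p := p) hm (Nat.lcm_pos (by omega) (by omega)) ?_))
          have e : chi s = P ^ 2 := eq_of_monic_of_dvd_of_natDegree_le (hPm.pow 2) hR.monic hPd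
            (by rw [natDegree_pow, hdeg, h8])
          exact e ▸ ((allDvd_irreducible hP hPm hdvd).pow 2).mono (Nat.dvd_lcm_left _ _)
      · rcases exists_block hR hP hPm hPd with ⟨h, -⟩ | ⟨-, hAs, hAd, hAdeg⟩
        · exact absurd h ht
        obtain ⟨R, hRe, hRs, hRd⟩ := hR.exists_cofactor hAs hAd
        have hA := hall.pow 2
        rcases (show P.natDegree = 1 ∨ P.natDegree = 2 by have := hP.natDegree_pos; omega) with e | e
        · rw [e, pow_one] at hA
          rcases small_four hRs (ev (hRe ▸ dvd_mul_left R _)) (by omega) ⟨c1, hc1⟩ with h | h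
          · exact Or.inl (dvd_of_allDvd (p := p) hm (by omega) (hRe ▸ (hA.mono sq_facts.2).mul h))
          · exact Or.inr (Or.inl (dvd_of_allDvd (p := p) hm (Nat.lcm_pos (by omega) (by omega))
              (hRe ▸ (hA.mono (Nat.dvd_lcm_right _ _)).mul (h.mono (Nat.dvd_lcm_left _ _)))))
        · rw [e] at hA
          refine Or.inl (dvd_of_allDvd (p := p) hm (by omega) ?_)
          have hR1 : R = 1 := hRs.monic.natDegree_eq_zero.1 (by omega)
          rw [hRe, hR1, mul_one]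
          exact hA
    · have hA : AllDvd (q + 1) ((X - C (-1) : F[X]) ^ 4) :=
        (allDvd_X_add_one (F := F) (show Even (q + 1) from ⟨c1 + 1, by omega⟩)).pow 4
      rcases hblock (selfRec_X_add_one.pow 4) ((pow_dvd_pow _ (show 4 ≤ 2 * k by omega)).trans hkd) (hdegX 4) hA with h | h
      · exact Or.inl h
      · exact Or.inr (Or.inr h)
  · rcases exists_repeat (p := p) hB h2 hev hs hm hc hJ (j := j) hne with
      ⟨P, hP, hPm, hPne, hPd⟩ | ⟨k, hk, hkd⟩
    · have hP1 : P ∣ chi s := (dvd_pow_self P j.succ_ne_zero).trans hPd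
      rcases factor_cases hR h1 hP hPm hP1 with h | ⟨-, -, hs', b, hb, hdeg, hdvd⟩ | ⟨ht, hs', -, hdeg, hall⟩
      · exact absurd h hPne
      · have hle := natDegree_le_of_dvd hPd hR.monic.ne_zero
        rw [natDegree_pow, h8, hdeg] at hle
        have hb1 : b = 1 := by nlinarith
        subst hb1
        rw [pow_one] at hdvd
        refine Or.inl ⟨by omega, Or.inr (dvd_of_allDvd (p := p) hm (by omega) ?_)⟩
        have e : chi s = P ^ (j + 1) := eq_of_monic_of_dvd_of_natDegree_le (hPm.pow _) hR.monic hPd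
          (by rw [natDegree_pow, hdeg, h8]; omega)
        exact e ▸ (allDvd_irreducible hP hPm hdvd).pow _
      · rcases exists_block hR hP hPm hPd with ⟨h, -⟩ | ⟨-, hAs, hAd, hAdeg⟩
        · exact absurd h ht
        have hle := natDegree_le_of_dvd hAd hR.monic.ne_zero
        rw [hAdeg, h8] at hle
        have hD : P.natDegree = 1 := by have := hP.natDegree_pos; nlinarith
        rw [hD] at hall hle hAdeg
        rw [pow_one] at hall
        refine Or.inl ⟨by omega, Or.inl (dvd_of_allDvd (p := p) hm (by omega) ?_)⟩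
        have e : chi s = (P * τ P) ^ (j + 1) := eq_of_monic_of_dvd_of_natDegree_le hAs.monic hR.monic hAd
          (by rw [hAdeg, h8]; omega)
        exact e ▸ hall.pow _
    · have hle := natDegree_le_of_dvd hkd hR.monic.ne_zero
      rw [hdegX, h8] at hle
      rcases le_or_gt j 4 with hj4 | hj4
      · refine Or.inl ⟨hj4, ?_⟩
        obtain ⟨R, hRe, hRs, hRd⟩ := hR.exists_cofactor (selfRec_X_add_one.pow 6)
          ((pow_dvd_pow _ (show 6 ≤ 2 * k by omega)).trans hkd)
        rw [hdegX, h8] at hRd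
        rcases small_two hRs (ev (hRe ▸ dvd_mul_left R _)) (by omega) ⟨c1, hc1⟩ with h | h
        · exact Or.inl (dvd_of_allDvd (p := p) hm (by omega)
            (hRe ▸ ((allDvd_X_add_one (F := F) (show Even (q - 1) from ⟨c1, by omega⟩)).pow 6).mul h))
        · exact Or.inr (dvd_of_allDvd (p := p) hm (by omega)
            (hRe ▸ ((allDvd_X_add_one (F := F) (show Even (q + 1) from ⟨c1 + 1, by omega⟩)).pow 6).mul h))
      · refine Or.inr ⟨by omega, dvd_of_allDvd (p := p) hm two_pos ?_⟩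
        have e : chi s = (X - C (-1) : F[X]) ^ 8 := eq_of_monic_of_dvd_of_natDegree_le ((monic_X_sub_C _).pow 8) hR.monic
          ((pow_dvd_pow _ (show 8 ≤ 2 * k by omega)).trans hkd) (by rw [hdegX, h8])
        exact e ▸ (allDvd_X_add_one (F := F) even_two).pow 8

include p in
/-- The element orders of this kind occur in `V ⋊ Ω⁻(8,q)`. -/
theorem plus_case (hq : Odd q) (h2 : (2 : F) ≠ 0) {a b : F}
    (hab : ∀ z₁ z₂ : F, z₁ ^ 2 + a * z₁ * z₂ + b * z₂ ^ 2 = 0 → z₁ = 0 ∧ z₂ = 0)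
    {Qp : QuadraticForm F (Fin 4 ⊕ Fin 4 → F)} (hQp : ⇑Qp = Cfsg.quadFormPlus 4 F) (hB : Nondeg Qp)
    {Q₈ : QuadraticForm F ((Fin 3 ⊕ Fin 3) ⊕ Fin 2 → F)} (hQ₈ : ⇑Q₈ = Cfsg.quadFormMinus 3 F a b) (hB₈ : Nondeg Q₈)
    {g : Grp Qp} (hg : g ∈ Cfsg.Omega F ⇑Qp) {m f : ℕ} (hord : orderOf g = m * p ^ f) (hm : m.Coprime p)
    (hfix : ∀ x, ap (g ^ p ^ f) x = x → x = 0) : Spec Q₈ p (orderOf g) := by
  have hp := (Fact.out : p.Prime)
  have hm0 : 0 < m := Nat.pos_of_ne_zero fun e => by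
    have := orderOf_pos g
    rw [hord, e, zero_mul] at this
    omega
  set s := g ^ p ^ f with hsdef
  have hso : orderOf s = m := by
    rw [hsdef, orderOf_pow' _ (pow_ne_zero _ hp.ne_zero), hord, Nat.gcd_mul_left_left,
      Nat.mul_div_cancel _ (pow_pos hp.pos _)]
  have hsΩ : s ∈ Cfsg.Omega F ⇑Qp := pow_mem hg _
  have hsd : dickson hB s = 1 := MonoidHom.mem_ker.1 (Abelianization.commutator_subset_ker (dickson hB) hsΩ)
  obtain ⟨⟨T1, T2, T3⟩, ⟨T4, T5, T6⟩, T7, T8⟩ := targets (p := p) hq hab hQ₈ hB₈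
  rw [hord]
  rcases Nat.eq_zero_or_pos f with rfl | hf
  · rw [pow_zero, mul_one]
    rcases semisimple_dvd (p := p) hq hab hQp hB hsΩ (hso.symm ▸ hm) hfix with h | h | h <;> rw [hso] at h
    · exact T1.of_dvd h
    · exact T2.of_dvd h
    · exact T3.of_dvd h
  have hJ : (act Qp (g ^ m) - 1) ^ p ^ f = 0 := by
    rw [sub_one_pow_char F, ← map_pow, ← pow_mul, ← hord, pow_orderOf_eq_one, map_one, sub_self]
  have hne : ∀ i, i < f → (act Qp (g ^ m) - 1) ^ p ^ i ≠ 0 := fun i hi e => by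
    rw [sub_one_pow_char F, sub_eq_zero, ← map_pow, ← pow_mul, ← map_one (act Qp)] at e
    have h := orderOf_dvd_of_pow_eq_one (act_injective e)
    rw [hord] at h
    have := Nat.le_of_dvd (by have := pow_pos hp.pos i; positivity) h
    have h' : p ^ i < p ^ f := Nat.pow_lt_pow_right hp.one_lt hi
    have := Nat.mul_lt_mul_of_pos_left h' hm0
    omega
  obtain ⟨H1, H2⟩ := repeat_dvd (p := p) hq h2 hB (by rfl) hsd (hso.symm ▸ hm) hfix
    ((Commute.refl g).pow_pow _ _) hJ
  rw [hso] at H1 H2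
  have hp3 : 3 ≤ p := by
    rcases eq_or_ne p 2 with rfl | h
    · exact absurd (by exact_mod_cast CharP.cast_eq_zero F 2) h2
    · have := hp.two_le; omega
  obtain ⟨f, rfl⟩ : ∃ f', f = f' + 1 := ⟨f - 1, by omega⟩
  rcases Nat.eq_zero_or_pos f with rfl | hf'
  · rw [zero_add, pow_one, mul_comm]
    have h0 := hne 0 zero_lt_one
    rw [pow_zero, pow_one] at h0
    rcases H1 h0 with h | h | h
    · exact T4.of_dvd (Nat.mul_dvd_mul_left p h)
    · exact T5.of_dvd (Nat.mul_dvd_mul_left p h)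
    · exact T6.of_dvd (Nat.mul_dvd_mul_left p h)
  have hj := hne f (by omega)
  have hpf : p ≤ p ^ f := Nat.le_self_pow (by omega) p
  have hf1 : f = 1 := by
    by_contra hne'
    have : p ^ 2 ≤ p ^ f := Nat.pow_le_pow_right hp.pos (by omega)
    have : 9 ≤ p ^ 2 := by rw [pow_two]; exact Nat.mul_le_mul hp3 hp3
    rcases H2 (p ^ f) (by omega) hj with ⟨h, -⟩ | ⟨h, -⟩ <;> omega
  subst hf1
  rw [pow_one] at hj
  rw [show m * p ^ (1 + 1) = p * (m * p) by ring]
  rcases H2 p hp3 hj with ⟨h4, h | h⟩ | ⟨h6, h⟩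
  · exact (T7 h4).1.of_dvd (Nat.mul_dvd_mul_left p (Nat.mul_dvd_mul_right h p))
  · exact (T7 h4).2.of_dvd (Nat.mul_dvd_mul_left p (Nat.mul_dvd_mul_right h p))
  · exact (T8 h6).of_dvd (Nat.mul_dvd_mul_left p (Nat.mul_dvd_mul_right h p))

end CfsgLib.Spectrum.OmegaNine
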