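import Cfsg.Agent.Lib.Spectrum.OmegaNine.PlusRepeat
import Cfsg.Agent.Lib.Spectrum.OmegaNine.Embed

/-!
Element orders of `Ω(9,q)` inside those of `V ⋊ Ω⁻(8,q)`.
-/

set_option autoImplicit false
set_option linter.unusedSectionVars false
set_option maxHeartbeats 800000

namespace CfsgLib.Spectrum.OmegaNine

open Module CfsgLib.Orth CfsgLib.Classical.OrthModels

variable {F : Type*} [Field F] [Fintype F] {p : ℕ} [Fact p.Prime] [CharP F p]

section general

variable {ι : Type} [Fintype ι] [DecidableEq ι] {Q : QuadraticForm F (ι → F)}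

local notation "B" => QuadraticMap.polar (DFunLike.coe Q)

/-- The part of an isometry outside an invariant subspace. -/
theorem exists_outer (hB : Nondeg Q) {W : Submodule F (ι → F)} (hW : NondegOn Q W) {h : Grp Q}
    (hinv : ∀ x ∈ W, ap h⁻¹ x ∈ W) :
    ∃ g : Grp Q, (∀ x ∈ W, ap g x = x) ∧ ∀ z ∈ orth Q W, ap g z = ap h z := by
  have hc : IsCompl W (orth Q W) := ⟨disjoint_iff.2 ((Submodule.eq_bot_iff _).2 fun x hx => nondeg_inf hW hx.1 hx.2),
    codisjoint_iff.2 (sup_orth_eq_top hB hW)⟩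
  let m : (ι → F) →ₗ[F] (ι → F) := LinearMap.ofIsCompl hc W.subtype (act Q h ∘ₗ (orth Q W).subtype)
  have hm1 : ∀ x ∈ W, m x = x := fun x hx => LinearMap.ofIsCompl_left_apply hc (⟨x, hx⟩ : W)
  have hm2 : ∀ z ∈ orth Q W, m z = ap h z := fun z hz =>
    LinearMap.ofIsCompl_right_apply hc (⟨z, hz⟩ : orth Q W)
  obtain ⟨g, hg⟩ := exists_iso hB m fun x => by
    obtain ⟨a, ha, b, hb, rfl⟩ := exists_decomp hB hW x
    rw [map_add, hm1 a ha, hm2 b hb, q_add, q_add, ap_q, mem_orth.1 hb a ha,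
      mem_orth.1 (orth_invariant hinv hb) a ha]
  exact ⟨g, fun x hx => (hg x).trans (hm1 x hx), fun z hz => (hg z).trans (hm2 z hz)⟩

theorem nondegOn_perp {W : Submodule F (ι → F)} (hW : NondegOn Q W) {w : ι → F} (hw : w ∈ W)
    (h : B w w ≠ 0) :
    NondegOn Q (W ⊓ orth Q (Submodule.span F {w})) ∧
      finrank F W ≤ finrank F ↥(W ⊓ orth Q (Submodule.span F {w})) + 1 := by
  have hproj : ∀ y ∈ W, y - (B w y / B w w) • w ∈ W ⊓ orth Q (Submodule.span F {w}) := fun y hy =>
    ⟨W.sub_mem hy (W.smul_mem _ hw), mem_orth_span_of (by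
      rw [b_sub_right, b_smul_right, div_mul_cancel₀ _ h, sub_self])⟩
  refine ⟨fun x hx hperp => hW x hx.1 fun y hy => ?_, ?_⟩
  · have := hperp _ (hproj y hy)
    rwa [b_sub_right, b_smul_right, b_comm x w, b_eq_zero_of_orth_span hx.2, mul_zero, sub_zero] at this
  · have hle : W ≤ W ⊓ orth Q (Submodule.span F {w}) ⊔ Submodule.span F {w} := fun y hy => Submodule.mem_sup.2
      ⟨_, hproj y hy, _, Submodule.smul_mem _ _ (Submodule.mem_span_singleton_self w), sub_add_cancel _ _⟩
    have h1 := Submodule.finrank_mono hle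
    have h2 := Submodule.finrank_add_le_finrank_add_finrank (W ⊓ orth Q (Submodule.span F {w}))
      (Submodule.span F {w})
    rw [finrank_span_singleton (ne_zero_of_b h)] at h2
    omega

variable {κ : Type} [Fintype κ] [DecidableEq κ] {Q₀ : QuadraticForm F (κ → F)}

include p in
/-- An element whose semisimple part fixes a good vector and some orthogonal vector. -/
theorem spec_large_fix (hB : Nondeg Q) (h2 : (2 : F) ≠ 0) (hn : 2 ≤ finrank F (ι → F)) {h : Grp Q}
    (hh : h ∈ Cfsg.Omega F ⇑Q) {m f : ℕ} (hord : orderOf h = p ^ f * m) (hm : m.Coprime p) (hf : f ≤ 2)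
    {w : ι → F} (hw : Good Q Q₀ w) (hwV : w ∈ fixSpace (h ^ p ^ f))
    (hd : 3 ≤ finrank F (fixSpace (h ^ p ^ f))) (hodd : Odd (finrank F (fixSpace (h ^ p ^ f)))) :
    Spec Q₀ p (orderOf h) := by
  have hp : p.Prime := Fact.out
  obtain ⟨hp3, hpodd⟩ := p_facts (p := p) h2
  set s := h ^ p ^ f with hs
  have hso : orderOf s = m := by
    rw [hs, orderOf_pow' _ (pow_ne_zero _ hp.ne_zero), hord, Nat.gcd_mul_right_left,
      Nat.mul_div_cancel_left _ (pow_pos hp.pos _)]
  have hmF : (m : F) ≠ 0 := cast_ne_zero (p := p) hm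
  set V := fixSpace s with hV
  have hnd : NondegOn Q V := nondegOn_fix hB (by rwa [hso])
  have hsΩ : s ∈ Cfsg.Omega F ⇑Q := pow_mem hh _
  have hbw : B w w ≠ 0 := by rw [b_self]; exact mul_ne_zero h2 hw.1
  obtain ⟨hWnd, hWd⟩ := nondegOn_perp hnd hwV hbw
  set W := V ⊓ orth Q (Submodule.span F {w}) with hW
  have hsw : ap s w = w := mem_fixSpace.1 hwV
  rw [hord]
  rcases (show f = 0 ∨ f = 1 ∨ f = 2 by omega) with rfl | rfl | rfl
  · rw [pow_zero, one_mul]
    have := (hw.spec hB h2 hsΩ hsw p).1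
    rwa [hso] at this
  · obtain ⟨v, hv, hv0⟩ := Submodule.exists_mem_ne_zero_of_ne_bot (p := W) fun e => by
      rw [e, finrank_bot] at hWd; omega
    have := (hw.spec hB h2 hsΩ hsw p).2 ⟨v, b_eq_zero_of_orth_span hv.2, by
      rw [Finset.sum_congr rfl fun i _ => ap_pow_fixed (mem_fixSpace.1 hv.1) i, Finset.sum_const, Finset.card_range,
        hso, ← Nat.cast_smul_eq_nsmul F]
      exact smul_ne_zero hmF hv0⟩
    rw [hso] at this
    exact this.of_dvd (by rw [pow_one])
  have hinvV : ∀ x ∈ V, ap h⁻¹ x ∈ V := fun x hx => fix_invariant (((Commute.refl h).pow_left _).inv_right) hx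
  set u := h ^ m with hu
  have huo : orderOf u = p ^ 2 := by
    have hm0 : 0 < m := Nat.pos_of_ne_zero fun e => hmF (by rw [e, Nat.cast_zero])
    rw [hu, orderOf_pow' _ hm0.ne', hord, Nat.gcd_mul_left_left, Nat.mul_div_cancel _ hm0]
  by_cases hr : ∃ r ∈ orth Q V, ap (u ^ p) r ≠ r
  · obtain ⟨r, hr, hrne⟩ := hr
    obtain ⟨g, hg1, hg2⟩ := exists_outer hB hnd hinvV
    have hgw : ap g w = w := hg1 w hwV
    have hgpow : ∀ (i : ℕ), ∀ z ∈ orth Q V, ap (g ^ i) z = ap (h ^ i) z := fun i => by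
      induction i with
      | zero => intro z _; simp
      | succ i ih =>
        intro z hz
        rw [pow_succ, pow_succ, ap_mul, ap_mul, hg2 z hz]
        exact ih _ (orth_invariant hinvV hz)
    obtain ⟨U, hU⟩ : ∃ U, U = h * g⁻¹ := ⟨_, rfl⟩
    have hginv : ∀ x ∈ V, ap g⁻¹ x = x := fun x hx => by
      conv_lhs => rw [← hg1 x hx]
      exact ap_inv_ap g x
    have hUV : ∀ (i : ℕ), ∀ x ∈ V, ap (U ^ i) x = ap (h ^ i) x := fun i => by
      induction i with
      | zero => intro x _; simp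
      | succ i ih =>
        intro x hx
        have e : ap U x = ap h x := by rw [hU, ap_mul, hginv x hx]
        rw [pow_succ, pow_succ, ap_mul, ap_mul, e]
        exact ih _ (fix_invariant ((Commute.refl h).pow_left _) hx)
    have hUW : ∀ z ∈ orth Q V, ap U z = z := fun z hz => by
      have hz' : ap h⁻¹ z ∈ orth Q V := orth_invariant (fun x hx => by
        rw [inv_inv]; exact fix_invariant ((Commute.refl h).pow_left _) hx) hz
      have e : ap g⁻¹ z = ap h⁻¹ z := ap_inj g (by rw [ap_ap_inv, hg2 _ hz', ap_ap_inv])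
      rw [hU, ap_mul, e, ap_ap_inv]
    have hU1 : U ^ p ^ 2 = 1 := ext_ap fun x => by
      obtain ⟨a, ha, b, hb, rfl⟩ := exists_decomp hB hnd x
      rw [ap_add, hUV _ a ha, ap_pow_fixed (hUW b hb), mem_fixSpace.1 ha, ap_one]
    have hUΩ : U ∈ Cfsg.Omega F ⇑Q :=
      mem_omega_of_odd_order hB h2 hn (hpodd.pow.of_dvd_nat (orderOf_dvd_of_pow_eq_one hU1))
    have hgΩ : g ∈ Cfsg.Omega F ⇑Q := by
      rw [show g = U⁻¹ * h by rw [hU]; group]
      exact mul_mem (inv_mem hUΩ) hh
    refine (hw.spec hB h2 hgΩ hgw p).1.of_dvd ?_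
    set N := orderOf g
    have hN : ∀ z ∈ orth Q V, ap (h ^ N) z = z := fun z hz => by
      rw [← hgpow N z hz, pow_orderOf_eq_one, ap_one]
    have hmN : m ∣ N := by
      rw [← hso]
      refine orderOf_dvd_of_pow_eq_one (ext_ap fun x => ?_)
      obtain ⟨a, ha, b, hb, rfl⟩ := exists_decomp hB hnd x
      rw [ap_add, ap_pow_fixed (mem_fixSpace.1 ha), hs, ← pow_mul, mul_comm, pow_mul,
        ap_pow_fixed (hN b hb), ap_one]
    obtain ⟨t, ht⟩ := hmN
    have hit : ∀ i, (ap u)^[i] r = ap (u ^ i) r := fun i => by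
      induction i with
      | zero => simp
      | succ i ih => rw [Function.iterate_succ_apply', ih, pow_succ', ap_mul]
    have h1 : Function.IsPeriodicPt (ap u) (p ^ 2) r := by
      show (ap u)^[p ^ 2] r = r
      rw [hit, ← huo, pow_orderOf_eq_one, ap_one]
    have h2' : Function.IsPeriodicPt (ap u) t r := by
      show (ap u)^[t] r = r
      rw [hit, hu, ← pow_mul, ← ht, hN r hr]
    obtain ⟨i, hi, hie⟩ := (Nat.dvd_prime_pow hp).1 h1.minimalPeriod_dvd
    have hi2 : i = 2 := by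
      by_contra hne
      refine hrne ?_
      have hd : Function.minimalPeriod (ap u) r ∣ p := by
        rw [hie]
        conv_rhs => rw [← pow_one p]
        exact pow_dvd_pow p (by omega)
      rw [← hit]
      exact Function.isPeriodicPt_iff_minimalPeriod_dvd.2 hd
    have := h2'.minimalPeriod_dvd
    rw [hie, hi2] at this
    rw [ht, mul_comm (p ^ 2)]
    exact Nat.mul_dvd_mul_left m this
  · push Not at hr
    obtain ⟨x, hx, hxne⟩ : ∃ x ∈ V, ((act Q u - 1) ^ p) x ≠ 0 := by
      by_contra hc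
      push Not at hc
      have h1 : u ^ p = 1 := ext_ap fun x => by
        obtain ⟨a, ha, b, hb, rfl⟩ := exists_decomp hB hnd x
        have h := hc a ha
        rw [show p = p ^ 1 from (pow_one p).symm, sub_one_pow_char F, pow_one, LinearMap.sub_apply,
          Module.End.one_apply, sub_eq_zero, ← ap_pow_eq] at h
        rw [ap_add, h, hr b hb, ap_one]
      have := orderOf_dvd_of_pow_eq_one h1
      rw [huo] at this
      have := Nat.le_of_dvd hp.pos this
      nlinarith
    have hlt := lt_finrank (act Q u - 1) V (fun x hx => V.sub_mem (fix_invariant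
      ((Commute.refl h).pow_pow _ _) hx) hx) (J := p ^ 2) (fun x _ => by
        rw [sub_one_pow_char F, ← map_pow, ← huo, pow_orderOf_eq_one, map_one, sub_self, LinearMap.zero_apply]) hx hxne
    obtain ⟨U, hUo, hUfix, v, hv, hvsum⟩ := exists_order_p (p := p) hB h2 hpodd hWnd (by
      obtain ⟨c, hc⟩ := hpodd
      obtain ⟨d, hd'⟩ := hodd
      omega)
    have hsW : ∀ x ∈ W, ap s x = x := fun x hx => mem_fixSpace.1 hx.1
    have hcom : Commute s U := commute_of_fix hB hWnd hsW hUfix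
    have hUw : ap U w = w := hUfix w (mem_orth.2 fun z hz => by
      rw [b_comm]; exact b_eq_zero_of_orth_span hz.2)
    have ho : orderOf (s * U) = m * p := by
      rw [hcom.orderOf_mul_eq_mul_orderOf_of_coprime (by rw [hso, hUo]; exact hm), hso, hUo]
    have hΩ : s * U ∈ Cfsg.Omega F ⇑Q := mul_mem hsΩ (mem_omega_of_odd_order hB h2 hn (hUo.symm ▸ hpodd))
    have hUinv : ∀ (i : ℕ), ∀ x ∈ W, ap (U ^ i) x ∈ W := fun i x hx => by
      suffices h' : ap (U ^ i) x ∈ orth Q (orth Q W) by rwa [orth_orth hB W] at h'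
      refine orth_invariant (fun z hz => ?_) (by rwa [orth_orth hB W])
      have e : ap (U ^ i)⁻¹ z = z := by
        conv_lhs => rw [← ap_pow_fixed (hUfix z hz) i]
        exact ap_inv_ap _ z
      rwa [e]
    have := (hw.spec hB h2 hΩ (by rw [ap_mul, hUw, hsw]) p).2 ⟨v, b_eq_zero_of_orth_span hv.2, by
      rw [ho, Finset.sum_congr rfl (fun i _ => show ap ((s * U) ^ i) v = ap (U ^ i) v by
        rw [hcom.mul_pow, ap_mul, ap_pow_fixed (hsW _ (hUinv i v hv)) i]),
        sum_range_periodic _ (fun i => by rw [pow_add, ← hUo, pow_orderOf_eq_one, mul_one]),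
        ← Nat.cast_smul_eq_nsmul F]
      exact smul_ne_zero hmF hvsum⟩
    rw [ho] at this
    exact this.of_dvd (Eq.dvd (by ring))

end general

variable {Q : QuadraticForm F (Unit ⊕ (Fin 4 ⊕ Fin 4) → F)}

local notation "B" => QuadraticMap.polar (DFunLike.coe Q)

include p in
theorem spec_of_omega (hq : Odd (Fintype.card F)) (h2 : (2 : F) ≠ 0) {a b : F}
    (hab : ∀ z₁ z₂ : F, z₁ ^ 2 + a * z₁ * z₂ + b * z₂ ^ 2 = 0 → z₁ = 0 ∧ z₂ = 0) (hB : Nondeg Q)
    {Q₈ : QuadraticForm F ((Fin 3 ⊕ Fin 3) ⊕ Fin 2 → F)} (hQ₈ : ⇑Q₈ = Cfsg.quadFormMinus 3 F a b) (hB₈ : Nondeg Q₈)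
    {w₀ : Unit ⊕ (Fin 4 ⊕ Fin 4) → F} (hw₀ : Good Q Q₈ w₀) {h : Grp Q} (hh : h ∈ Cfsg.Omega F ⇑Q) :
    Spec Q₈ p (orderOf h) := by
  have hp : p.Prime := Fact.out
  obtain ⟨hp3, hpodd⟩ := p_facts (p := p) h2
  have h9 : finrank F (Unit ⊕ (Fin 4 ⊕ Fin 4) → F) = 9 := by simp
  obtain ⟨f, m, hm, hord⟩ := Nat.exists_eq_pow_mul_and_not_dvd (orderOf_pos h).ne' p hp.ne_one
  have hmc : m.Coprime p := ((hp.coprime_iff_not_dvd).2 hm).symm
  have hm0 : 0 < m := Nat.pos_of_ne_zero fun e => by rw [e] at hm; exact hm (dvd_zero p)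
  have hf : f ≤ 2 := by
    by_contra hlt
    obtain ⟨x, hx⟩ : ∃ x, ((act Q (h ^ m) - 1) ^ p ^ 2) x ≠ 0 := by
      by_contra hc
      push Not at hc
      have h1 : (act Q (h ^ m) - 1) ^ p ^ 2 = 0 := LinearMap.ext hc
      rw [sub_one_pow_char F, sub_eq_zero, ← map_pow, ← pow_mul, ← map_one (act Q)] at h1
      have := Nat.le_of_dvd (by positivity) (orderOf_dvd_of_pow_eq_one (act_injective h1))
      rw [hord, mul_comm] at this
      have h3 : p ^ 2 < p ^ f := Nat.pow_lt_pow_right hp.one_lt (by omega)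
      have := Nat.mul_lt_mul_of_pos_left h3 hm0
      omega
    have := lt_finrank (act Q (h ^ m) - 1) ⊤ (fun _ _ => trivial) (J := p ^ f) (fun x _ => by
      rw [sub_one_pow_char F, ← map_pow, ← pow_mul, mul_comm, ← hord, pow_orderOf_eq_one, map_one, sub_self,
        LinearMap.zero_apply]) (Submodule.mem_top : x ∈ ⊤) hx
    rw [finrank_top, h9] at this
    nlinarith
  set s := h ^ p ^ f with hs
  have hsF : (orderOf s : F) ≠ 0 := by
    rw [hs, orderOf_pow' _ (pow_ne_zero _ hp.ne_zero), hord, Nat.gcd_mul_right_left,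
      Nat.mul_div_cancel_left _ (pow_pos hp.pos _)]
    exact cast_ne_zero (p := p) hmc
  set V := fixSpace s with hV
  have hnd : NondegOn Q V := nondegOn_fix hB hsF
  have hodd : Odd (finrank F V) := by
    have h' := dickson_of_omega hB (pow_mem hh (p ^ f) : s ∈ _)
    rw [Nat.even_add', h9] at h'
    exact h'.1 (by decide)
  rcases le_or_gt 3 (finrank F V) with hd | hd
  · obtain ⟨w, hwV, hQw⟩ := univ_of_dim (Q := Q) (R := V) (by
      rw [show V ⊓ orth Q V = ⊥ from (Submodule.eq_bot_iff _).2 fun x hx => nondeg_inf hnd hx.1 hx.2, finrank_bot]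
      omega) (Q w₀) hw₀.1
    exact spec_large_fix hB h2 (by omega) hh hord hmc hf (hw₀.of_same hB hQw) hwV hd hodd
  have hd1 : finrank F V = 1 := by obtain ⟨c, hc⟩ := hodd; omega
  obtain ⟨w, hwV, hw0⟩ := Submodule.exists_mem_ne_zero_of_ne_bot (p := V) fun e => by
    rw [e, finrank_bot] at hd1; omega
  have hVw : V = Submodule.span F {w} := (Submodule.eq_of_le_of_finrank_eq
    ((Submodule.span_singleton_le_iff_mem _ _).2 hwV) (by rw [finrank_span_singleton hw0, hd1])).symm
  have hQw : Q w ≠ 0 := fun e => hw0 (hnd w hwV fun y hy => by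
    rw [hVw] at hy
    obtain ⟨c, rfl⟩ := Submodule.mem_span_singleton.1 hy
    rw [b_smul_right, b_self, e, mul_zero, mul_zero])
  have hfix : ap h w = w := by
    have h1 : ap h w ∈ V := fix_invariant ((Commute.refl h).pow_left _) hwV
    rw [hVw] at h1
    obtain ⟨c, hc⟩ := Submodule.mem_span_singleton.1 h1
    have hcp : ∀ i : ℕ, ap (h ^ i) w = c ^ i • w := fun i => by
      induction i with
      | zero => simp
      | succ i ih => rw [pow_succ, ap_mul, ← hc, ap_smul, ih, smul_smul, pow_succ']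
    have hc2 : c * c = 1 := by
      have h := ap_q h w
      rw [← hc, q_smul] at h
      exact (mul_eq_right₀ hQw).1 h
    have h' := mem_fixSpace.1 hwV
    rw [hs, hcp] at h'
    have hc1 : c ^ p ^ f = 1 := smul_left_injective F hw0 (by simpa using h')
    obtain ⟨d, hd'⟩ := hpodd.pow (n := f)
    rw [hd', pow_succ, pow_mul, pow_two, hc2, one_pow, one_mul] at hc1
    rw [← hc, hc1, one_smul]
  set O := orth Q (Submodule.span F {w})
  have hOnd : NondegOn Q O := nondegOn_orth hB (hVw ▸ hnd)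
  have hOd : finrank F O = 2 * 4 := by
    show finrank F (orth Q (Submodule.span F {w})) = 2 * 4
    have := finrank_orth hB (Submodule.span F {w})
    rw [finrank_span_singleton hw0, h9] at this
    omega
  have hsep : ∀ u : O, (∀ v : O, QuadraticMap.polar ⇑(Q.comp O.subtype) u v = 0) → u = 0 := fun u hu =>
    Subtype.ext (hOnd u u.2 fun y hy => by simpa [QuadraticMap.polar] using hu ⟨y, hy⟩)
  have hgood : ∀ {κ : Type} [Fintype κ] [DecidableEq κ] (Qx : QuadraticForm F (κ → F)),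
      Iso ⇑(Q.comp O.subtype) ⇑Qx → Good Q Qx w := fun {κ} _ _ Qx ⟨e, he⟩ =>
    ⟨hQw, 1, one_ne_zero, O.subtype ∘ₗ e.symm.toLinearMap, O.injective_subtype.comp e.symm.injective,
      by rw [LinearMap.range_comp, LinearEquiv.range, Submodule.map_top, Submodule.range_subtype],
      fun x => by
        have h := he (e.symm x)
        rw [e.apply_symm_apply, QuadraticMap.comp_apply] at h
        rw [one_mul, h]
        rfl⟩
  rcases classify_even (k := 4) (Q.comp O.subtype)
    ⟨hsep, fun v hv => hsep v fun u => by rw [QuadraticMap.polar_comm]; exact hv u⟩ hOd a b hab with hI | ⟨j, hj, hI⟩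
  · obtain ⟨Qp, hQp, hBp⟩ := exists_quadForm_plus (F := F) 4
    obtain ⟨e, hinj, hr, k, hk, hko, hki⟩ := (hgood Qp (hQp.symm ▸ hI)).exists_restrict hB h2 hh hfix
    rw [← hko]
    refine plus_case (p := p) hq h2 hab hQp hBp hQ₈ hB₈ hk (m := m) (f := f) (by rw [hko, hord, mul_comm]) hmc
      fun x hx => ?_
    have he : ∀ x, e x ∈ orth Q V := fun x => by
      rw [hVw, ← hr]
      exact LinearMap.mem_range_self e x
    have h1 : e x ∈ V := by
      rw [hV, mem_fixSpace, hs, ← hki, hx]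
    have h0 := nondeg_inf hnd h1 (he x)
    exact (map_eq_zero_iff e hinj).1 h0
  · obtain rfl : j = 3 := by omega
    exact ((hgood Q₈ (hQ₈.symm ▸ hI)).spec hB h2 hh hfix p).1

end CfsgLib.Spectrum.OmegaNine
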