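import Cfsg.Agent.Lib.Spectrum.OmegaNine.Basic

/-!
Element orders of a natural split extension.
-/

set_option autoImplicit false
set_option linter.unusedSectionVars false

namespace CfsgLib.Spectrum.OmegaNine

open CfsgLib.Orth

variable {F : Type*} [Field F] [Fintype F] {p : ℕ} [Fact p.Prime] [CharP F p]
variable {ι : Type} [Fintype ι] [DecidableEq ι] {Q : QuadraticForm F (ι → F)}
variable {φ : ↥(Cfsg.Omega F ⇑Q) →* MulAut (Multiplicative (ι → F))}

theorem semi_pow (hφ : ∀ g v, Multiplicative.toAdd (φ g v) = ap (g : Grp Q) (Multiplicative.toAdd v))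
    (x : Multiplicative (ι → F) ⋊[φ] ↥(Cfsg.Omega F ⇑Q)) : ∀ n : ℕ, (x ^ n).right = x.right ^ n ∧
      Multiplicative.toAdd (x ^ n).left =
        ∑ i ∈ Finset.range n, ap ((x.right : Grp Q) ^ i) (Multiplicative.toAdd x.left) := by
  intro n
  induction n with
  | zero => simp
  | succ n ih =>
    rw [pow_succ, SemidirectProduct.mul_right, SemidirectProduct.mul_left, ih.1, toAdd_mul, hφ, ih.2,
      Finset.sum_range_succ, SubgroupClass.coe_pow]
    exact ⟨(pow_succ _ _).symm, rfl⟩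

include p in
theorem mem_range_semidirect (hφ : ∀ g v, Multiplicative.toAdd (φ g v) = ap (g : Grp Q) (Multiplicative.toAdd v))
    (n : ℕ) : n ∈ Set.range (orderOf : Multiplicative (ι → F) ⋊[φ] ↥(Cfsg.Omega F ⇑Q) → ℕ) ↔
      ∃ k : Grp Q, k ∈ Cfsg.Omega F ⇑Q ∧ (n = orderOf k ∨ HasSum k ∧ n = p * orderOf k) := by
  have hp : p.Prime := Fact.out
  have key : ∀ (x : Multiplicative (ι → F) ⋊[φ] ↥(Cfsg.Omega F ⇑Q)),
      (∑ i ∈ Finset.range (orderOf x.right), ap ((x.right : Grp Q) ^ i) (Multiplicative.toAdd x.left) = 0 →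
        orderOf x = orderOf x.right) ∧
      (∑ i ∈ Finset.range (orderOf x.right), ap ((x.right : Grp Q) ^ i) (Multiplicative.toAdd x.left) ≠ 0 →
        orderOf x = p * orderOf x.right) := by
    intro x
    obtain ⟨hr, hl⟩ := semi_pow hφ x (orderOf x.right)
    rw [pow_orderOf_eq_one] at hr
    have hdvd : orderOf x.right ∣ orderOf x := orderOf_map_dvd SemidirectProduct.rightHom x
    refine ⟨fun h0 => Nat.dvd_antisymm (orderOf_dvd_of_pow_eq_one ?_) hdvd, fun h0 => ?_⟩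
    · refine SemidirectProduct.ext (Multiplicative.toAdd.injective ?_) hr
      rw [hl, h0]; rfl
    · have hsum : Multiplicative.toAdd (x ^ (orderOf x.right * p)).left =
          p • Multiplicative.toAdd (x ^ orderOf x.right).left := by
        rw [(semi_pow hφ x _).2, hl, mul_comm, sum_range_periodic _ fun i => by
          rw [pow_add, ← SubgroupClass.coe_pow x.right (orderOf x.right), pow_orderOf_eq_one, OneMemClass.coe_one,
            mul_one]]
      have h1 : x ^ (orderOf x.right * p) = 1 := SemidirectProduct.ext (Multiplicative.toAdd.injective (by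
        rw [hsum, ← Nat.cast_smul_eq_nsmul F, CharP.cast_eq_zero, zero_smul]; rfl)) (by
        rw [(semi_pow hφ x _).1, pow_mul, pow_orderOf_eq_one, one_pow]; rfl)
      obtain ⟨c, hc⟩ := hdvd
      have hcd : c ∣ p := Nat.dvd_of_mul_dvd_mul_left (orderOf_pos _) (hc ▸ orderOf_dvd_of_pow_eq_one h1)
      rcases (Nat.dvd_prime hp).1 hcd with rfl | rfl
      · refine absurd ?_ h0
        rw [← hl, ← mul_one (orderOf x.right), ← hc, pow_orderOf_eq_one]
        rfl
      · rw [hc, mul_comm]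
  have ho : ∀ g : ↥(Cfsg.Omega F ⇑Q), orderOf (g : Grp Q) = orderOf g := fun g => Subgroup.orderOf_coe g
  constructor
  · rintro ⟨x, rfl⟩
    refine ⟨x.right, x.right.2, ?_⟩
    rw [ho]
    by_cases h0 : ∑ i ∈ Finset.range (orderOf x.right), ap ((x.right : Grp Q) ^ i) (Multiplicative.toAdd x.left) = 0
    · exact Or.inl ((key x).1 h0)
    · exact Or.inr ⟨⟨_, by rw [ho]; exact h0⟩, (key x).2 h0⟩
  · rintro ⟨k, hk, rfl | ⟨⟨v, hv⟩, rfl⟩⟩
    · exact ⟨⟨1, ⟨k, hk⟩⟩, by rw [(key _).1 (by simp [ap_zero])]; exact (ho ⟨k, hk⟩).symm⟩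
    · exact ⟨⟨Multiplicative.ofAdd v, ⟨k, hk⟩⟩, by
        rw [(key _).2 (by rw [← ho]; exact hv)]; exact congrArg (p * ·) (ho ⟨k, hk⟩).symm⟩

include p in
theorem range_of_spec (hφ : ∀ g v, Multiplicative.toAdd (φ g v) = ap (g : Grp Q) (Multiplicative.toAdd v))
    {n : ℕ} (h : Spec Q p n) :
    n ∈ Set.range (orderOf : Multiplicative (ι → F) ⋊[φ] ↥(Cfsg.Omega F ⇑Q) → ℕ) := by
  obtain ⟨k, hk, hd⟩ | ⟨k, hk, hs, hd⟩ := h
  · obtain ⟨x, hx⟩ := (mem_range_semidirect (p := p) hφ (orderOf k)).2 ⟨k, hk, Or.inl rfl⟩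
    rw [← hx] at hd
    exact ⟨_, orderOf_pow_orderOf_div ((hx ▸ orderOf_pos k).ne') hd⟩
  · obtain ⟨x, hx⟩ := (mem_range_semidirect (p := p) hφ (p * orderOf k)).2 ⟨k, hk, Or.inr ⟨hs, rfl⟩⟩
    rw [← hx] at hd
    exact ⟨_, orderOf_pow_orderOf_div ((hx ▸ Nat.mul_pos (Fact.out : p.Prime).pos (orderOf_pos k)).ne') hd⟩

end CfsgLib.Spectrum.OmegaNine
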