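import Cfsg.Agent.Lib.Spectrum.OmegaNine.Unipotent

/-!
Fixed spaces of semisimple isometries and restriction to the orthogonal of a fixed vector.
-/

set_option autoImplicit false
set_option linter.unusedSectionVars false

namespace CfsgLib.Spectrum.OmegaNine

open Module CfsgLib.Orth

section linear

variable {F : Type*} [Field F] {V : Type*} [AddCommGroup V] [Module F V] [FiniteDimensional F V]

/-- A nilpotent map on an invariant subspace has index at most the dimension. -/
theorem lt_finrank (T : Module.End F V) (W : Submodule F V) (hW : ∀ x ∈ W, T x ∈ W) {J k : ℕ}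
    (hJ : ∀ x ∈ W, (T ^ J) x = 0) {x : V} (hx : x ∈ W) (hk : (T ^ k) x ≠ 0) : k < finrank F W := by
  have hmem : ∀ (i : ℕ) y, y ∈ W → (T ^ i) y ∈ W := fun i => by
    induction i with
    | zero => intro y hy; exact hy
    | succ i ih => intro y hy; rw [pow_succ, Module.End.mul_apply]; exact ih _ (hW y hy)
  have hle : ∀ i, W.map (T ^ (i + 1)) ≤ W.map (T ^ i) := by
    rintro i z ⟨y, hy, rfl⟩
    exact ⟨T y, hW y hy, by rw [pow_succ]; rfl⟩
  have hne : ∀ i, i ≤ k → W.map (T ^ i) ≠ ⊥ := fun i hi e => hk (by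
    have h : (T ^ i) ((T ^ (k - i)) x) ∈ W.map (T ^ i) := ⟨_, hmem _ _ hx, rfl⟩
    rw [e, Submodule.mem_bot, ← Module.End.mul_apply, ← pow_add, Nat.add_sub_cancel' hi] at h
    exact h)
  have hlt : ∀ i, i ≤ k → finrank F (W.map (T ^ (i + 1))) < finrank F (W.map (T ^ i)) := fun i hi =>
    Submodule.finrank_lt_finrank_of_lt (lt_of_le_of_ne (hle i) fun e => by
      have hst : ∀ j, W.map (T ^ (i + j)) = W.map (T ^ i) := fun j => by
        induction j with
        | zero => rfl
        | succ j ih =>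
          rw [← add_assoc, pow_succ', Module.End.mul_eq_comp, Submodule.map_comp, ih, ← Submodule.map_comp,
            ← Module.End.mul_eq_comp, ← pow_succ', e]
      refine hne i hi (le_bot_iff.1 fun z hz => ?_)
      rw [← hst J] at hz
      obtain ⟨y, hy, rfl⟩ := hz
      rw [Submodule.mem_bot, pow_add, Module.End.mul_apply, hJ y hy, map_zero])
  have hbound : ∀ i, i ≤ k + 1 → finrank F (W.map (T ^ i)) + i ≤ finrank F W := by
    intro i
    induction i with
    | zero => intro _; simpa using Submodule.finrank_map_le (T ^ 0) W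
    | succ i ih =>
      intro hi
      have := hlt i (by omega)
      have := ih (by omega)
      omega
  have := hbound (k + 1) le_rfl
  omega

end linear

variable {F : Type*} [Field F] [Finite F] {ι : Type} [Fintype ι] [DecidableEq ι] {κ : Type} [Fintype κ] [DecidableEq κ]
variable {Q : QuadraticForm F (ι → F)}

local notation "B" => QuadraticMap.polar (DFunLike.coe Q)

theorem nondegOn_fix (hB : Nondeg Q) {s : Grp Q} (hm : (orderOf s : F) ≠ 0) : NondegOn Q (fixSpace s) := by
  intro x hx hperp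
  refine hB x fun y => ?_
  set π := ∑ i ∈ Finset.range (orderOf s), ap (s ^ i) y with hπ
  have hfix : π ∈ fixSpace s := by
    rw [mem_fixSpace, hπ, ap_sum]
    have e : ∀ i, ap s (ap (s ^ i) y) = ap (s ^ (i + 1)) y := fun i => by rw [pow_succ', ap_mul]
    simp only [e]
    have h1 := Finset.sum_range_succ' (fun i => ap (s ^ i) y) (orderOf s)
    rw [Finset.sum_range_succ, pow_orderOf_eq_one, pow_zero] at h1
    exact (add_right_cancel h1).symm
  have h := hperp π hfix
  rw [hπ, ← QuadraticMap.polarBilin_apply_apply, map_sum, Finset.sum_congr rfl (g := fun _ => B x y) fun i _ => ?_] at h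
  · rw [Finset.sum_const, Finset.card_range, nsmul_eq_mul] at h
    exact (mul_eq_zero.1 h).resolve_left hm
  · rw [QuadraticMap.polarBilin_apply_apply]
    conv_lhs => rw [← ap_pow_fixed (mem_fixSpace.1 hx) i]
    exact ap_b _ x y

theorem fix_invariant {s h : Grp Q} (hc : Commute s h) {x : ι → F} (hx : x ∈ fixSpace s) :
    ap h x ∈ fixSpace s := by
  rw [mem_fixSpace, ← ap_mul, hc.eq, ap_mul, mem_fixSpace.1 hx]

theorem orth_invariant {W : Submodule F (ι → F)} {g : Grp Q} (hW : ∀ w ∈ W, ap g⁻¹ w ∈ W) {x : ι → F}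
    (hx : x ∈ orth Q W) : ap g x ∈ orth Q W := fun w hw => by
  show B w (ap g x) = 0
  rw [← ap_ap_inv g w, ap_b]
  exact mem_orth.1 hx _ (hW w hw)

theorem dickson_of_omega (hB : Nondeg Q) {g : Grp Q} (hg : g ∈ Cfsg.Omega F ⇑Q) :
    Even (finrank F (ι → F) + finrank F (fixSpace g)) := by
  have h : dickson hB g = 1 := MonoidHom.mem_ker.1 (Abelianization.commutator_subset_ker (dickson hB) hg)
  exact (neg_one_pow_eq_one_iff_even (by decide)).1 h

/-- The one-dimensional form. -/
noncomputable def lineForm (c : F) : QuadraticForm F (Unit → F) :=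
  c • (QuadraticMap.sq (R := F)).comp (LinearMap.proj ())

theorem lineForm_apply (c : F) (x : Unit → F) : lineForm c x = c * (x () * x ()) := rfl

theorem lineForm_nondeg (h2 : (2 : F) ≠ 0) {c : F} (hc : c ≠ 0) : Nondeg (lineForm c) := by
  intro x hx
  have h := hx fun _ => 1
  simp only [QuadraticMap.polar, lineForm_apply, Pi.add_apply] at h
  have h' : 2 * c * x () = 0 := by linear_combination h
  funext u
  exact (mul_eq_zero.1 h').resolve_left (mul_ne_zero h2 hc)

/-- The orthogonal of `w` is similar to `Q₀`. -/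
def Good (Q : QuadraticForm F (ι → F)) (Q₀ : QuadraticForm F (κ → F)) (w : ι → F) : Prop :=
  Q w ≠ 0 ∧ ∃ c : F, c ≠ 0 ∧ ∃ e : (κ → F) →ₗ[F] (ι → F), Function.Injective e ∧
    LinearMap.range e = orth Q (Submodule.span F {w}) ∧ ∀ x, Q (e x) = c * Q₀ x

variable {Q₀ : QuadraticForm F (κ → F)}

theorem b_eq_zero_of_orth_span {w x : ι → F} (h : x ∈ orth Q (Submodule.span F {w})) : B w x = 0 :=
  mem_orth.1 h w (Submodule.mem_span_singleton_self w)

theorem mem_orth_span_of {w x : ι → F} (h : B w x = 0) : x ∈ orth Q (Submodule.span F {w}) :=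
  mem_orth_span.2 fun s hs => by rw [Set.mem_singleton_iff.1 hs]; exact h

theorem Good.of_same (hB : Nondeg Q) {w w' : ι → F} (h : Good Q Q₀ w) (hw : Q w' = Q w) : Good Q Q₀ w' := by
  obtain ⟨hQw, c, hc, e, hinj, hr, he⟩ := h
  have hw0 : w ≠ 0 := fun e0 => hQw (by rw [e0, QuadraticMap.map_zero])
  have hw0' : w' ≠ 0 := fun e0 => hQw (by rw [← hw, e0, QuadraticMap.map_zero])
  obtain ⟨g, hg⟩ := exists_move_sub hB (Submodule.span F {w}) (Submodule.span F {w'})
    ((LinearEquiv.toSpanNonzeroSingleton F (ι → F) w hw0).symm.trans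
      (LinearEquiv.toSpanNonzeroSingleton F (ι → F) w' hw0')) fun u => by
        obtain ⟨t, rfl⟩ := (LinearEquiv.toSpanNonzeroSingleton F (ι → F) w hw0).surjective u
        rw [LinearEquiv.trans_apply, LinearEquiv.symm_apply_apply,
          LinearEquiv.toSpanNonzeroSingleton_apply, LinearEquiv.toSpanNonzeroSingleton_apply]
        simp only [q_smul, hw]
  refine ⟨hw ▸ hQw, c, hc, (act Q g) ∘ₗ e, fun x y hxy => hinj (ap_inj g hxy), ?_, fun x => by
    show Q (ap g (e x)) = _
    rw [ap_q, he]⟩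
  rw [LinearMap.range_comp, hr]
  have hg' : (Submodule.span F {w}).map (act Q g) = Submodule.span F {w'} := hg
  refine le_antisymm ?_ fun y hy => ⟨ap g⁻¹ y, mem_orth.2 fun z hz => ?_, ap_ap_inv g y⟩
  · rintro _ ⟨x, hx, rfl⟩
    refine mem_orth.2 fun z hz => ?_
    rw [← hg'] at hz
    obtain ⟨u, hu, rfl⟩ := hz
    show B (ap g u) (ap g x) = 0
    rw [ap_b]
    exact mem_orth.1 hx u hu
  · rw [← ap_b g, ap_ap_inv]
    exact mem_orth.1 hy _ (hg' ▸ ⟨z, hz, rfl⟩)

/-- An element of `Ω` fixing `w` restricts into `Ω` of the orthogonal of `w`. -/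
theorem Good.exists_restrict (hB : Nondeg Q) (h2 : (2 : F) ≠ 0) {w : ι → F} (hw : Good Q Q₀ w) {h : Grp Q}
    (hh : h ∈ Cfsg.Omega F ⇑Q) (hfix : ap h w = w) :
    ∃ e : (κ → F) →ₗ[F] (ι → F), Function.Injective e ∧ LinearMap.range e = orth Q (Submodule.span F {w}) ∧
      ∃ k : Grp Q₀, k ∈ Cfsg.Omega F ⇑Q₀ ∧ orderOf k = orderOf h ∧ ∀ i x, e (ap (k ^ i) x) = ap (h ^ i) (e x) := by
  classical
  obtain ⟨hQw, c, hc, e, hinj, hr, he⟩ := hw
  refine ⟨e, hinj, hr, ?_⟩
  let R := lineForm (Q w / c)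
  have hR : Nondeg R := lineForm_nondeg h2 (div_ne_zero hQw hc)
  have hwe : ∀ x, B w (e x) = 0 := fun x => b_eq_zero_of_orth_span (hr ▸ LinearMap.mem_range_self e x)
  have hbw : B w w ≠ 0 := by rw [b_self]; exact mul_ne_zero h2 hQw
  let Φl : (κ ⊕ Unit → F) →ₗ[F] (ι → F) :=
    e ∘ₗ LinearMap.funLeft F F Sum.inl + LinearMap.smulRight (LinearMap.proj (Sum.inr ())) w
  have hΦl : ∀ x, Φl x = e (x ∘ Sum.inl) + x (Sum.inr ()) • w := fun _ => rfl
  have hΦb : Function.Bijective Φl := by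
    constructor
    · rw [injective_iff_map_eq_zero]
      intro x hx
      rw [hΦl] at hx
      have h0 := congrArg (fun z => B w z) hx
      simp only [b_add_right, b_smul_right, hwe, zero_add, b_zero_right] at h0
      have hx0 : x (Sum.inr ()) = 0 := (mul_eq_zero.1 h0).resolve_right hbw
      rw [hx0, zero_smul, add_zero] at hx
      have := hinj (hx.trans (map_zero e).symm)
      funext i
      rcases i with i | i
      · exact congrFun this i
      · exact hx0
    · intro y
      obtain ⟨z, hz⟩ : y - (B w y / B w w) • w ∈ LinearMap.range e := hr ▸ mem_orth_span_of (by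
        rw [b_sub_right, b_smul_right, div_mul_cancel₀ _ hbw, sub_self])
      exact ⟨Sum.elim z fun _ => B w y / B w w, by
        rw [hΦl, Sum.elim_comp_inl, hz, Sum.elim_inr, sub_add_cancel]⟩
  let Φ := LinearEquiv.ofBijective Φl hΦb
  have hΦ : ∀ x, Φ x = e (x ∘ Sum.inl) + x (Sum.inr ()) • w := fun _ => rfl
  have hsim : ∀ x, Q (Φ x) = c * osum Q₀ R x := fun x => by
    rw [hΦ, q_add, q_smul, he, b_smul_right, b_comm, hwe, mul_zero, add_zero, osum_apply, lineForm_apply]
    simp only [Function.comp_apply]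
    field_simp
  have h0 : Nondeg Q₀ := by
    intro x hx
    have hx' := nondeg_of_sim hB Φ hsim (Sum.elim x 0) fun y => by
      rw [polar_osum, Sum.elim_comp_inl, Sum.elim_comp_inr, hx, b_zero_left, add_zero]
    funext i
    exact congrFun hx' (Sum.inl i)
  have hst : ∀ x, ap h (e x) ∈ LinearMap.range e := fun x => hr ▸ mem_orth_span_of (by
    conv_lhs => rw [← hfix]
    rw [ap_b, hwe])
  let eE : (κ → F) ≃ₗ[F] LinearMap.range e := LinearEquiv.ofInjective e hinj
  obtain ⟨k, hk⟩ := exists_iso h0 (eE.symm.toLinearMap ∘ₗ LinearMap.codRestrict _ (act Q h ∘ₗ e) hst) fun x => by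
    refine mul_left_cancel₀ hc ?_
    rw [← he, ← he]
    show Q ((eE (eE.symm ⟨ap h (e x), hst x⟩) : LinearMap.range e) : ι → F) = _
    rw [eE.apply_symm_apply, ap_q]
  have hek : ∀ x, e (ap k x) = ap h (e x) := fun x => by
    rw [hk]
    exact congrArg Subtype.val (eE.apply_symm_apply ⟨ap h (e x), hst x⟩)
  have heki : ∀ i x, e (ap (k ^ i) x) = ap (h ^ i) (e x) := fun i => by
    induction i with
    | zero => intro x; simp
    | succ i ih => intro x; rw [pow_succ, pow_succ, ap_mul, ap_mul, ih, hek]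
  obtain ⟨φ, hφ, hΩ, -⟩ := exists_transport hB Φ hc hsim
  have hblock : φ (blockHom Q₀ R (k, 1)) = h := ext_ap fun y => by
    obtain ⟨x, rfl⟩ := Φ.surjective y
    rw [hφ, hΦ, hΦ, ap_blockHom, Sum.elim_comp_inl, Sum.elim_inr, ap_add, ap_smul, hfix, hek]
    rfl
  refine ⟨k, mem_omega_of_block h0 hR (fun _ e2 => h2 ?_) ((hΩ _).1 (hblock ▸ hh)), ?_, heki⟩
  · cases nonempty_fintype F
    rw [Nat.card_eq_fintype_card] at e2
    have := FiniteField.cast_card_eq_zero F
    rwa [e2, Nat.cast_ofNat] at this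
  · rw [← hblock, MulEquiv.orderOf_eq, orderOf_block, orderOf_one, Nat.lcm_one_right]

theorem Good.spec (hB : Nondeg Q) (h2 : (2 : F) ≠ 0) {w : ι → F} (hw : Good Q Q₀ w) {h : Grp Q}
    (hh : h ∈ Cfsg.Omega F ⇑Q) (hfix : ap h w = w) (p : ℕ) :
    Spec Q₀ p (orderOf h) ∧
      ((∃ v, B w v = 0 ∧ ∑ i ∈ Finset.range (orderOf h), ap (h ^ i) v ≠ 0) → Spec Q₀ p (p * orderOf h)) := by
  obtain ⟨e, hinj, hr, k, hk, ho, hki⟩ := hw.exists_restrict hB h2 hh hfix
  refine ⟨Or.inl ⟨k, hk, ho ▸ dvd_rfl⟩, fun ⟨v, hv, hsum⟩ => Or.inr ⟨k, hk, ?_, ho ▸ dvd_rfl⟩⟩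
  obtain ⟨x, rfl⟩ : v ∈ LinearMap.range e := hr ▸ mem_orth_span_of hv
  refine ⟨x, fun e0 => hsum ?_⟩
  rw [← ho, ← Finset.sum_congr rfl fun i _ => hki i x, ← map_sum, e0, map_zero]

end CfsgLib.Spectrum.OmegaNine
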